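import Groth.Agent.BMCoh.Height

/-!
# Locally closed pieces of an object and the decompositions they define
-/

universe u

open CategoryTheory AlgebraicGeometry TopologicalSpace Topology CategoryTheory.Limits

noncomputable section

namespace Groth.Agent.BMCoh

open _root_.BMCoh

variable {V : ObjectProperty Scheme.{u}} [hV : IsConstructible V]

instance isReduced_vanishingIdeal_subscheme (S : Scheme.{u}) (K : TopologicalSpace.Closeds S) :
    IsReduced (Scheme.IdealSheafData.vanishingIdeal K).subscheme := by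
  apply +allowSynthFailures @IsReduced.of_openCover
    (𝒰 := (Scheme.IdealSheafData.vanishingIdeal K).subschemeCover.openCover)
  intro U
  have : _root_.IsReduced (Γ(S, U.1) ⧸ (Scheme.IdealSheafData.vanishingIdeal K).ideal U) := by
    rw [← Ideal.isRadical_iff_quotient_reduced, Scheme.IdealSheafData.vanishingIdeal_ideal]
    exact PrimeSpectrum.isRadical_vanishingIdeal _
  exact inferInstanceAs (IsReduced
    (Spec (CommRingCat.of (Γ(S, U.1) ⧸ (Scheme.IdealSheafData.vanishingIdeal K).ideal U))))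

/-- A closed subset of an object with its reduced structure, as an object. -/
abbrev closedSub (X : Obj V) (K : TopologicalSpace.Closeds X.scheme) : Obj V :=
  ⟨(Scheme.IdealSheafData.vanishingIdeal K).subscheme,
    IsConstructible.of_isClosedImmersion (Scheme.IdealSheafData.vanishingIdeal K).subschemeι
      (h := inferInstance) X.mem⟩

abbrev closedSubι (X : Obj V) (K : TopologicalSpace.Closeds X.scheme) :
    (closedSub X K).scheme ⟶ X.scheme :=
  (Scheme.IdealSheafData.vanishingIdeal K).subschemeι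

theorem range_closedSubι (X : Obj V) (K : TopologicalSpace.Closeds X.scheme) :
    Set.range (closedSubι X K) = (K : Set X.scheme) := by
  rw [Scheme.IdealSheafData.range_subschemeι, Scheme.IdealSheafData.coe_support_vanishingIdeal]

/-- The open of the closure of `x` cut out by an open of the ambient object. -/
abbrev ptOpen (X : Obj V) (x : X.scheme) (U : X.scheme.Opens) : (X.ptSub x).scheme.Opens :=
  X.ptSubι x ⁻¹ᵁ U

theorem ptOpen_nonempty (X : Obj V) {x : X.scheme} {U : X.scheme.Opens} (hx : x ∈ U) :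
    (ptOpen X x U : Set (X.ptSub x).scheme).Nonempty := by
  obtain ⟨p, hp⟩ : x ∈ Set.range (X.ptSubι x) := by
    rw [range_ptSubι]; exact subset_closure rfl
  exact ⟨p, show X.ptSubι x p ∈ U by rwa [hp]⟩

theorem dim_ptSub_res (X : Obj V) {x : X.scheme} (W : (X.ptSub x).scheme.Opens)
    (hW : (W : Set (X.ptSub x).scheme).Nonempty) :
    WeilCoh.dim (W : Scheme.{u}) = WeilCoh.pdim X.scheme x :=
  (IsConstructible.dim_open (X.ptSub x).mem inferInstance W hW).trans (dim_ptSub X x)

/-- A member of the index family of a point. -/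
abbrev mkPtIdx (X : Obj V) (x : X.scheme) (W : (X.ptSub x).scheme.Opens)
    (hW : (W : Set (X.ptSub x).scheme).Nonempty) : ptIdx X x :=
  ⟨W, hW, IsConstructible.dim_open (X.ptSub x).mem inferInstance W hW⟩

/-- The member of the index family of a point cut out by an open containing it. -/
abbrev ptIdxOf (X : Obj V) {x : X.scheme} {U : X.scheme.Opens} (hx : x ∈ U) : ptIdx X x :=
  mkPtIdx X x (ptOpen X x U) (ptOpen_nonempty X hx)

/-- A member of the index family of `F_j X`. -/
abbrev mkFjIdx (X : Obj V) {j : ℕ} (U : X.scheme.Opens) (hU : ContainsFj X j U) :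
    Idx X (ContainsFj X j) :=
  ⟨U, hU, dim_eq_of_containsFj X hU⟩

/-- The decomposition of the open `U'` into the open `U` and a closed subscheme. -/
def mkDecomp (X Z : Obj V) (c : Z.scheme ⟶ X.scheme) [IsClosedImmersion c] (U U' : X.scheme.Opens)
    (hle : U ≤ U') (hd : WeilCoh.dim (U : Scheme.{u}) = WeilCoh.dim (U' : Scheme.{u}))
    (h : ∀ y ∈ U', y ∈ U ↔ y ∉ Set.range c) : Decomp (X.res U') where
  Z := Z.res (c ⁻¹ᵁ U')
  U := X.res U
  i := c ∣_ U'
  closedImm := (inferInstance : IsClosedImmersion (c ∣_ U'))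
  j := X.resLE hle hd
  range_eq := by
    ext y
    have key : y ∈ Set.range (c ∣_ U') ↔ U'.ι y ∈ Set.range c := by
      constructor
      · rintro ⟨z, rfl⟩
        exact ⟨(c ⁻¹ᵁ U').ι z, by rw [← Scheme.Hom.comp_apply, ← morphismRestrict_ι]; rfl⟩
      · rintro ⟨z, hz⟩
        refine ⟨⟨z, show c z ∈ U' by rw [hz]; exact y.2⟩, U'.ι.isOpenEmbedding.injective ?_⟩
        rw [← Scheme.Hom.comp_apply, morphismRestrict_ι]
        exact hz
    have key2 : y ∈ Set.range (X.scheme.homOfLE hle) ↔ U'.ι y ∈ U := by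
      constructor
      · rintro ⟨z, rfl⟩
        rw [← Scheme.Hom.comp_apply, Scheme.homOfLE_ι]
        exact z.2
      · intro hy
        refine ⟨⟨U'.ι y, hy⟩, U'.ι.isOpenEmbedding.injective ?_⟩
        rw [← Scheme.Hom.comp_apply, Scheme.homOfLE_ι]
        rfl
    rw [Set.mem_compl_iff, key]
    exact key2.trans (h _ y.2)

/-- The base change square between two restrictions of a morphism to nested opens. -/
theorem isPullback_restrict {Z Y : Scheme.{u}} (c : Z ⟶ Y) {U U' : Y.Opens} (hle : U ≤ U') :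
    IsPullback (Z.homOfLE (c.preimage_mono hle)) (c ∣_ U) (c ∣_ U') (Y.homOfLE hle) := by
  refine IsPullback.flip (IsPullback.of_bot (v₂₁ := (c ⁻¹ᵁ U').ι) (v₂₂ := U'.ι) ?_ ?_
    (isPullback_morphismRestrict c U'))
  · simpa only [Scheme.homOfLE_ι] using isPullback_morphismRestrict c U
  · rw [← cancel_mono U'.ι]
    simp [morphismRestrict_ι, morphismRestrict_ι_assoc]

section Components

theorem maximal_of_codim (X : Obj V) {j : ℕ} {U : X.scheme.Opens} (hU : ContainsFj X j U)
    {x y : X.scheme} (hx : WeilCoh.codim X.scheme x = j + 1) (hy : y ∉ U) (h : y ⤳ x) : y = x := by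
  by_contra hne
  have h1 := codim_lt_of_specializes X h (Ne.symm hne)
  exact hy (hU y (by omega))

/-- The closed complement, in the closed set `Z`, of the component through a maximal point `x`. -/
theorem exists_other_components (X : Obj V) (Z : TopologicalSpace.Closeds X.scheme) (x : X.scheme)
    (hmax : ∀ y ∈ Z, y ⤳ x → y = x) :
    ∃ K : TopologicalSpace.Closeds X.scheme, K ≤ Z ∧ x ∉ K ∧
      ∀ z ∈ Z, z ∈ closure ({x} : Set X.scheme) ∨ z ∈ K := by
  obtain ⟨S, hSfin, hSirr, hS⟩ :=
    TopologicalSpace.NoetherianSpace.exists_finite_set_closeds_irreducible Z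
  have hcoe : ∀ S : Set (TopologicalSpace.Closeds X.scheme), S.Finite →
      ∀ z, z ∈ sSup S ↔ ∃ t ∈ S, z ∈ t := by
    intro S hS
    induction S, hS using Set.Finite.induction_on with
    | empty =>
      intro z
      rw [sSup_empty, ← SetLike.mem_coe, TopologicalSpace.Closeds.coe_bot]
      simp
    | @insert t S _ _ ih =>
      intro z
      rw [sSup_insert, ← SetLike.mem_coe, TopologicalSpace.Closeds.coe_sup, Set.mem_union,
        SetLike.mem_coe, SetLike.mem_coe, ih]
      simp
  let T : Set (TopologicalSpace.Closeds X.scheme) := {t ∈ S | x ∉ t}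
  have hT : T.Finite := hSfin.subset (fun t ht ↦ ht.1)
  refine ⟨sSup T, ?_, ?_, fun z hz ↦ ?_⟩
  · exact sSup_le fun t ht ↦ (le_sSup ht.1).trans_eq hS.symm
  · intro hx
    obtain ⟨t, ht, hxt⟩ := (hcoe T hT x).mp hx
    exact ht.2 hxt
  · rw [hS, hcoe S hSfin] at hz
    obtain ⟨t, ht, hzt⟩ := hz
    by_cases hxt : x ∈ t
    · left
      obtain ⟨g, hg⟩ := QuasiSober.sober (hSirr t ht) t.isClosed
      have hgZ : g ∈ Z := by
        rw [hS, hcoe S hSfin]
        exact ⟨t, ht, hg.mem⟩
      obtain rfl := hmax g hgZ (hg.specializes hxt)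
      exact hg.def.ge hzt
    · exact Or.inr ((hcoe T hT z).mpr ⟨t, ⟨ht, hxt⟩, hzt⟩)

theorem finite_maximal (X : Obj V) (Z : TopologicalSpace.Closeds X.scheme) :
    {x : X.scheme | x ∈ Z ∧ ∀ y ∈ Z, y ⤳ x → y = x}.Finite := by
  obtain ⟨S, hSfin, hSirr, hS⟩ :=
    TopologicalSpace.NoetherianSpace.exists_finite_set_closeds_irreducible Z
  have hgp : ∀ t ∈ S, ∃ y, IsGenericPoint y (t : Set X.scheme) :=
    fun t ht ↦ QuasiSober.sober (hSirr t ht) t.isClosed
  choose g hg using hgp
  have : Finite {t // t ∈ S} := hSfin.to_subtype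
  refine (Set.finite_range fun t : {t // t ∈ S} ↦ g t.1 t.2).subset fun x ⟨hxZ, hmax⟩ ↦ ?_
  have hcl : IsClosed (⋃ t ∈ S, (t : Set X.scheme)) :=
    hSfin.isClosed_biUnion fun t _ ↦ t.isClosed
  have hle : Z ≤ ⟨_, hcl⟩ := hS ▸ sSup_le fun t ht ↦ Set.subset_biUnion_of_mem (u := SetLike.coe) ht
  obtain ⟨t, ht, hxt⟩ := Set.mem_iUnion₂.mp (hle hxZ)
  exact ⟨⟨t, ht⟩, hmax _ ((le_sSup ht).trans_eq hS.symm (hg t ht).mem) ((hg t ht).specializes hxt)⟩

theorem finite_codim_compl (X : Obj V) {j : ℕ} {U : X.scheme.Opens} (hU : ContainsFj X j U) :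
    {x : X.scheme | x ∉ U ∧ WeilCoh.codim X.scheme x = j + 1}.Finite :=
  (finite_maximal X ⟨(U : Set X.scheme)ᶜ, U.2.isClosed_compl⟩).subset fun _ ⟨hx, hc⟩ ↦
    ⟨hx, fun _ hy h ↦ maximal_of_codim X hU hc hy h⟩

/-- For a point `x` of codimension `j + 1` outside an open `U` containing `F_j X`: the union `K` of
the other components of the complement of `U`. -/
theorem exists_piece (X : Obj V) {j : ℕ} {U : X.scheme.Opens} (hU : ContainsFj X j U)
    {x : X.scheme} (hx : WeilCoh.codim X.scheme x = j + 1) (hxU : x ∉ U) :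
    ∃ K : TopologicalSpace.Closeds X.scheme, Disjoint (U : Set X.scheme) K ∧ x ∉ K ∧
      (∀ z, z ∉ U → z ∈ closure ({x} : Set X.scheme) ∨ z ∈ K) ∧
      closure ({x} : Set X.scheme) ∩ U = ∅ ∧
      ∀ z, z ∈ closure ({x} : Set X.scheme) → z ∈ K → j + 1 < WeilCoh.codim X.scheme z := by
  obtain ⟨K, hKZ, hxK, hcov⟩ := exists_other_components X ⟨(U : Set X.scheme)ᶜ, U.2.isClosed_compl⟩ x
    fun y hy h ↦ maximal_of_codim X hU hx hy h
  refine ⟨K, Set.disjoint_left.mpr fun z hz hzK ↦ hKZ hzK hz, hxK, hcov, ?_, fun z hz hzK ↦ ?_⟩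
  · refine Set.disjoint_iff_inter_eq_empty.mp (Set.disjoint_left.mpr fun z hz hzU ↦ hxU ?_)
    exact (specializes_iff_mem_closure.mpr hz).mem_open U.2 hzU
  · have hne : z ≠ x := fun h ↦ hxK (h ▸ hzK)
    have := codim_lt_of_specializes X (specializes_iff_mem_closure.mpr hz) hne
    omega

end Components

end Groth.Agent.BMCoh

end
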