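import Mathlib.AlgebraicGeometry.IdealSheaf.Subscheme
import Mathlib.AlgebraicGeometry.Morphisms.ClosedImmersion
import Groth.Prelude.Def_BMCoh4

/-!
# Dimensions of closures of points in a constructible class of schemes

`WeilCoh.pdim` as the height of a point in the specialisation order, its strict monotonicity, its
invariance under closed and open immersions, and the dimension of opens.
-/

universe u

open CategoryTheory AlgebraicGeometry TopologicalSpace Topology

namespace Groth.Agent.BMCoh

theorem natDim_eq_of_homeomorph {S T : Type u} [TopologicalSpace S] [TopologicalSpace T]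
    (e : S ≃ₜ T) : WeilCoh.natDim S = WeilCoh.natDim T := by
  unfold WeilCoh.natDim
  rw [IsHomeomorph.topologicalKrullDim_eq _ e.isHomeomorph]

theorem natDim_eq_of_range_eq {S T Y : Type u} [TopologicalSpace S] [TopologicalSpace T]
    [TopologicalSpace Y] {f : S → Y} {g : T → Y} (hf : IsEmbedding f) (hg : IsEmbedding g)
    (h : Set.range f = Set.range g) : WeilCoh.natDim S = WeilCoh.natDim T :=
  natDim_eq_of_homeomorph (hf.toHomeomorph.trans ((Homeomorph.setCongr h).trans hg.toHomeomorph.symm))

theorem natDim_le_of_isInducing {S T : Type u} [TopologicalSpace S] [TopologicalSpace T] {f : S → T}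
    (hf : IsInducing f) (hT : topologicalKrullDim T < ⊤) :
    WeilCoh.natDim S ≤ WeilCoh.natDim T := by
  have h := hf.topologicalKrullDim_le
  unfold WeilCoh.natDim
  cases hS : topologicalKrullDim S with
  | bot => simp
  | coe a =>
    cases hTd : topologicalKrullDim T with
    | bot => rw [hS, hTd] at h; simp at h
    | coe b =>
      rw [hS, hTd] at h
      rw [hTd] at hT
      exact ENat.toNat_le_toNat (WithBot.coe_le_coe.mp h) (WithBot.coe_lt_coe.mp hT).ne

section Points

variable {X : Scheme.{u}} (hX : topologicalKrullDim X < ⊤)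

attribute [local instance] specializationOrder

theorem topologicalKrullDim_closure_singleton (x : X) :
    topologicalKrullDim (closure ({x} : Set X)) = Order.height x := by
  have hC : IsClosedEmbedding (Subtype.val : closure ({x} : Set X) → X) :=
    isClosed_closure.isClosedEmbedding_subtypeVal
  have : QuasiSober (closure ({x} : Set X)) := hC.quasiSober
  let eq : (closure ({x} : Set X)) ≃ Set.Iic x :=
    { toFun := fun c ↦ ⟨c.1, specializes_iff_mem_closure.mpr c.2⟩
      invFun := fun c ↦ ⟨c.1, specializes_iff_mem_closure.mp c.2⟩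
      left_inv := fun _ ↦ rfl
      right_inv := fun _ ↦ rfl }
  let e : IrreducibleCloseds (closure ({x} : Set X)) ≃o Set.Iic x :=
    { toEquiv := irreducibleSetEquivPoints.toEquiv.trans eq
      map_rel_iff' := fun {a b} ↦
        (subtype_specializes_iff (irreducibleSetEquivPoints b) (irreducibleSetEquivPoints a)).symm.trans
          irreducibleSetEquivPoints.map_rel_iff }
  rw [topologicalKrullDim, Order.krullDim_eq_of_orderIso e, Order.height_eq_krullDim_Iic]

include hX in
theorem height_lt_top (x : X) : Order.height x < ⊤ := by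
  have := lt_of_le_of_lt (topologicalKrullDim_subspace_le X (closure ({x} : Set X))) hX
  rwa [topologicalKrullDim_closure_singleton, ← WithBot.coe_top, WithBot.coe_lt_coe] at this

include hX in
theorem pdim_eq_height (x : X) : (WeilCoh.pdim X x : ℕ∞) = Order.height x := by
  rw [WeilCoh.pdim, WeilCoh.natDim, topologicalKrullDim_closure_singleton]
  exact ENat.natCast_toNat (height_lt_top hX x).ne

include hX in
theorem pdim_lt_of_specializes {x y : X} (h : y ⤳ x) (hne : x ≠ y) :
    WeilCoh.pdim X x < WeilCoh.pdim X y := by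
  have hlt : x < y := lt_of_le_of_ne h hne
  have := Order.height_strictMono hlt (height_lt_top hX x)
  rw [← pdim_eq_height hX, ← pdim_eq_height hX] at this
  exact_mod_cast this

include hX in
theorem pdim_le_of_specializes {x y : X} (h : y ⤳ x) : WeilCoh.pdim X x ≤ WeilCoh.pdim X y := by
  rcases eq_or_ne x y with rfl | hne
  · rfl
  · exact (pdim_lt_of_specializes hX h hne).le

include hX in
theorem pdim_le_dim (x : X) : WeilCoh.pdim X x ≤ WeilCoh.dim X :=
  natDim_le_of_isInducing IsInducing.subtypeVal hX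

include hX in
theorem exists_specializes_pdim_eq (y : X) {k : ℕ} (hk : k ≤ WeilCoh.pdim X y) :
    ∃ x : X, y ⤳ x ∧ WeilCoh.pdim X x = k := by
  rcases hk.eq_or_lt with h | h
  · exact ⟨y, specializes_rfl, h.symm⟩
  · have hlt : (k : ℕ∞) < Order.height y := by
      rw [← pdim_eq_height hX]; exact_mod_cast h
    obtain ⟨x, hx, hk⟩ := (Order.coe_lt_height_iff (height_lt_top hX y)).mp hlt
    refine ⟨x, hx.le, ?_⟩
    rw [← pdim_eq_height hX] at hk
    exact_mod_cast hk

include hX in
theorem exists_pdim_eq_dim [Nonempty X] : ∃ x : X, WeilCoh.pdim X x = WeilCoh.dim X := by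
  have hbdd : BddAbove (Set.range (WeilCoh.pdim X)) :=
    ⟨WeilCoh.dim X, by rintro _ ⟨x, rfl⟩; exact pdim_le_dim hX x⟩
  obtain ⟨x, hx⟩ := Nat.sSup_mem (Set.range_nonempty (WeilCoh.pdim X)) hbdd
  refine ⟨x, le_antisymm (pdim_le_dim hX x) ?_⟩
  have key : topologicalKrullDim X ≤ (WeilCoh.pdim X x : ℕ) := by
    rw [topologicalKrullDim, Order.krullDim_eq_of_orderIso irreducibleSetEquivPoints,
      Order.krullDim_eq_iSup_height_of_nonempty]
    refine WithBot.coe_le_coe.mpr (iSup_le fun a ↦ ?_)
    rw [← pdim_eq_height hX]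
    exact Nat.cast_le.mpr (hx ▸ le_csSup hbdd ⟨a, rfl⟩)
  have hne : topologicalKrullDim X ≠ ⊥ := by
    have : Nonempty (IrreducibleCloseds X) := ⟨irreducibleSetEquivPoints.symm x⟩
    exact Order.krullDim_ne_bot_iff.mpr this
  unfold WeilCoh.dim WeilCoh.natDim
  revert key hne
  rcases topologicalKrullDim X with _ | a
  · exact fun _ h ↦ absurd rfl h
  · exact fun key _ ↦ ENat.toNat_le_of_le_natCast (WithBot.coe_le_coe.mp key)

end Points

theorem pdim_eq_of_isClosedEmbedding {X Y : Scheme.{u}} (f : X ⟶ Y) (hf : IsClosedEmbedding f)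
    (x : X) : WeilCoh.pdim Y (f x) = WeilCoh.pdim X x := by
  refine natDim_eq_of_range_eq (f := Subtype.val) (g := fun c : closure ({x} : Set X) ↦ f c.1)
    IsEmbedding.subtypeVal (hf.isEmbedding.comp IsEmbedding.subtypeVal) ?_
  rw [Subtype.range_val, show (fun c : closure ({x} : Set X) ↦ f c.1) = ⇑f ∘ Subtype.val from rfl,
    Set.range_comp, Subtype.range_val, ← hf.closure_image_eq, Set.image_singleton]

variable {V : ObjectProperty Scheme.{u}} [hV : _root_.BMCoh.IsConstructible V]

open _root_.BMCoh

set_option linter.unusedSectionVars false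

theorem dim_lt_top (X : Obj V) : topologicalKrullDim X.scheme < ⊤ :=
  IsConstructible.finiteDim X.mem

instance (X : Obj V) : IsNoetherian X.scheme := IsConstructible.isNoetherian X.mem

theorem range_ptSubι (X : Obj V) (x : X.scheme) :
    Set.range (X.ptSubι x) = closure ({x} : Set X.scheme) := by
  rw [Scheme.IdealSheafData.range_subschemeι, Scheme.IdealSheafData.coe_support_vanishingIdeal]
  rfl

theorem dim_ptSub (X : Obj V) (x : X.scheme) :
    WeilCoh.dim (X.ptSub x).scheme = WeilCoh.pdim X.scheme x :=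
  natDim_eq_of_range_eq (f := X.ptSubι x) (g := Subtype.val) (X.ptSubι x).isEmbedding
    IsEmbedding.subtypeVal (by rw [range_ptSubι, Subtype.range_val])

instance irreducibleSpace_ptSub (X : Obj V) (x : X.scheme) :
    IrreducibleSpace (X.ptSub x).scheme := by
  obtain ⟨p, hp⟩ : x ∈ Set.range (X.ptSubι x) := by
    rw [range_ptSubι]; exact subset_closure rfl
  have h : closure ({p} : Set (X.ptSub x).scheme) = Set.univ := by
    rw [(X.ptSubι x).isEmbedding.closure_eq_preimage_closure_image, Set.image_singleton, hp,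
      ← range_ptSubι, Set.preimage_range]
  have hi : IsIrreducible (Set.univ : Set (X.ptSub x).scheme) := h ▸ isIrreducible_singleton.closure
  exact { toPreirreducibleSpace := ⟨hi.2⟩, toNonempty := ⟨p⟩ }

theorem pdim_eq_of_isOpenImmersion (X : Obj V) {U : Scheme.{u}} (f : U ⟶ X.scheme)
    [IsOpenImmersion f] (x : U) : WeilCoh.pdim X.scheme (f x) = WeilCoh.pdim U x := by
  let O : (X.ptSub (f x)).scheme.Opens := X.ptSubι (f x) ⁻¹ᵁ f.opensRange
  obtain ⟨p, hp⟩ : f x ∈ Set.range (X.ptSubι (f x)) := by
    rw [range_ptSubι]; exact subset_closure rfl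
  have hne : (O : Set (X.ptSub (f x)).scheme).Nonempty :=
    ⟨p, show X.ptSubι (f x) p ∈ Set.range f by rw [hp]; exact ⟨x, rfl⟩⟩
  have h1 := IsConstructible.dim_open (X.ptSub (f x)).mem inferInstance O hne
  rw [dim_ptSub] at h1
  rw [← h1]
  refine natDim_eq_of_range_eq (f := O.ι ≫ X.ptSubι (f x))
    (g := fun c : closure ({x} : Set U) ↦ f c.1) (O.ι ≫ X.ptSubι (f x)).isEmbedding
    (f.isEmbedding.comp IsEmbedding.subtypeVal) ?_
  rw [show (fun c : closure ({x} : Set U) ↦ f c.1) = ⇑f ∘ Subtype.val from rfl,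
    Set.range_comp (g := ⇑f), Subtype.range_val, f.isEmbedding.closure_eq_preimage_closure_image,
    Set.image_preimage_eq_inter_range, Set.image_singleton]
  change Set.range ((X.ptSubι (f x)) ∘ O.ι) = _
  rw [Set.range_comp, Scheme.Opens.range_ι]
  change (X.ptSubι (f x)) '' ((X.ptSubι (f x)) ⁻¹' (Set.range f)) = _
  rw [Set.image_preimage_eq_inter_range, range_ptSubι, Set.inter_comm]

theorem dim_eq_of_mem (X : Obj V) (U : X.scheme.Opens) {y : X.scheme} (hy : y ∈ U)
    (hd : WeilCoh.pdim X.scheme y = WeilCoh.dim X.scheme) :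
    WeilCoh.dim (U : Scheme.{u}) = WeilCoh.dim X.scheme := by
  refine le_antisymm (natDim_le_of_isInducing U.ι.isEmbedding.isInducing (dim_lt_top X)) ?_
  calc WeilCoh.dim X.scheme = WeilCoh.pdim X.scheme (U.ι ⟨y, hy⟩) := hd.symm
    _ = WeilCoh.pdim _ _ := pdim_eq_of_isOpenImmersion X U.ι ⟨y, hy⟩
    _ ≤ WeilCoh.dim (U : Scheme.{u}) :=
        pdim_le_dim (dim_lt_top (X.res U)) _

theorem dim_eq_of_containsFj (X : Obj V) {j : ℕ} {U : X.scheme.Opens} (hU : ContainsFj X j U) :
    WeilCoh.dim (U : Scheme.{u}) = WeilCoh.dim X.scheme := by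
  rcases isEmpty_or_nonempty X.scheme with h | h
  · have : U = ⊤ := by ext x; exact (h.false x).elim
    rw [this]; exact dim_top _
  · obtain ⟨y, hy⟩ := exists_pdim_eq_dim (dim_lt_top X)
    exact dim_eq_of_mem X U (hU y (by simp [WeilCoh.codim, hy])) hy

theorem codim_lt_of_specializes (X : Obj V) {x y : X.scheme} (h : y ⤳ x) (hne : x ≠ y) :
    WeilCoh.codim X.scheme y < WeilCoh.codim X.scheme x := by
  have h1 := pdim_lt_of_specializes (dim_lt_top X) h hne
  have h2 := pdim_le_dim (dim_lt_top X) y
  unfold WeilCoh.codim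
  omega

theorem codim_add_pdim (X : Obj V) (x : X.scheme) :
    WeilCoh.codim X.scheme x + WeilCoh.pdim X.scheme x = WeilCoh.dim X.scheme :=
  Nat.sub_add_cancel (pdim_le_dim (dim_lt_top X) x)

theorem codim_le_dim (X : Obj V) (x : X.scheme) :
    WeilCoh.codim X.scheme x ≤ WeilCoh.dim X.scheme :=
  Nat.sub_le _ _

end Groth.Agent.BMCoh
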