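import Mathlib.CategoryTheory.Limits.Preserves.Filtered
import Mathlib.Algebra.Category.ModuleCat.FilteredColimits
import Groth.Agent.BMCoh.Geom

/-!
# The colimits `H(F_j X)` and `H(x)` at the level of elements
-/

universe u

open CategoryTheory AlgebraicGeometry Opposite CategoryTheory.Limits

noncomputable section

namespace Groth.Agent.BMCoh

open _root_.BMCoh

variable {V : ObjectProperty Scheme.{u}} [hV : IsConstructible V] {R : Type u} [CommRing R]
  {A : Coefs R} (T : PreTheory V R A)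

/-- A family of opens any two of whose members contain a common member. -/
class Directed (X : Obj V) (P : X.scheme.Opens → Prop) : Prop where
  nonempty : Nonempty (Idx X P)
  directed : ∀ U U' : Idx X P, ∃ W : Idx X P, W ≤ U ∧ W ≤ U'

instance (X : Obj V) (j : ℕ) : Directed X (ContainsFj X j) where
  nonempty := ⟨mkFjIdx X ⊤ fun _ _ ↦ trivial⟩
  directed U U' := ⟨mkFjIdx X (U.1 ⊓ U'.1) fun y hy ↦ ⟨U.2.1 y hy, U'.2.1 y hy⟩,
    inf_le_left (b := U'.1), inf_le_right (a := U.1)⟩

instance (X : Obj V) (x : X.scheme) :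
    Directed (X.ptSub x) (fun U => (U : Set (X.ptSub x).scheme).Nonempty) where
  nonempty := ⟨mkPtIdx X x ⊤ ⟨Classical.arbitrary _, trivial⟩⟩
  directed U U' := ⟨mkPtIdx X x (U.1 ⊓ U'.1)
    (nonempty_preirreducible_inter U.1.2 U'.1.2 U.2.1 U'.2.1), inf_le_left (b := U'.1),
    inf_le_right (a := U.1)⟩

variable {X : Obj V} {P Q : X.scheme.Opens → Prop} {i n : ℤ} {M : A.Cat}

instance [Directed X P] : IsFiltered (Idx X P)ᵒᵖ :=
  have : Nonempty (Idx X P) := Directed.nonempty
  have : IsDirectedOrder (Idx X P)ᵒᵈ :=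
    ⟨fun U U' ↦ let ⟨W, h, h'⟩ := Directed.directed (P := P) (OrderDual.ofDual U) (OrderDual.ofDual U')
      ⟨OrderDual.toDual W, h, h'⟩⟩
  have : IsCofiltered (Idx X P) :=
    { toIsCofilteredOrEmpty :=
        { cone_objs := fun U U' ↦
            let ⟨W, h, h'⟩ := Directed.directed (P := P) U U'
            ⟨W, homOfLE h, homOfLE h', trivial⟩
          cone_maps := fun U _ _ _ ↦ ⟨U, 𝟙 _, Subsingleton.elim _ _⟩ }
      nonempty := inferInstance }
  inferInstance

/-- The canonical map from the group of a member into the colimit, at a coefficient module. -/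
abbrev cι (M : A.Cat) (i n : ℤ) (U : Idx X P) : T.gp (X.res U.1) M i n ⟶ (T.ocolim X P i n).obj M :=
  (T.ocolimι X P i n U).app M

/-- Restriction between members of an index family. -/
abbrev resIdx {U U' : Idx X P} (h : U ≤ U') : X.res U.1 ⟶ X.res U'.1 :=
  X.resLE h (U.2.2.trans U'.2.2.symm)

theorem pull_cι {U U' : Idx X P} (h : U ≤ U') (a : T.gp (X.res U'.1) M i n) :
    (cι T M i n U).hom ((T.pull (resIdx h) M i n).hom a) = (cι T M i n U').hom a := by
  have := NatTrans.congr_app (colimit.w ((idxDiag X P).op ⋙ T.H i n) (homOfLE h).op) M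
  exact congrArg (fun f ↦ f.hom a) this

theorem ocolimMap_cι (h : ∀ U, P U → Q U) (U : Idx X P) (a : T.gp (X.res U.1) M i n) :
    ((T.ocolimMap X h i n).app M).hom ((cι T M i n U).hom a) =
      (cι T M i n ⟨U.1, h _ U.2.1, U.2.2⟩).hom a := by
  have := NatTrans.congr_app
    (colimit.ι_pre ((idxDiag X Q).op ⋙ T.H i n) (idxIncl X h).op (op U)) M
  exact congrArg (fun f ↦ f.hom a) this

variable [Directed X P]

theorem exists_rep (z : (T.ocolim X P i n).obj M) :
    ∃ (U : Idx X P) (a : T.gp (X.res U.1) M i n), (cι T M i n U).hom a = z := by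
  obtain ⟨U, a, h⟩ := Concrete.isColimit_exists_rep _
    (isColimitOfPreserves ((evaluation A.Cat (ModuleCat.{u} R)).obj M)
      (colimit.isColimit ((idxDiag X P).op ⋙ T.H i n))) z
  exact ⟨U.unop, a, h⟩

theorem exists_rep_le (U₀ : Idx X P) (z : (T.ocolim X P i n).obj M) :
    ∃ (U : Idx X P) (_ : U ≤ U₀) (a : T.gp (X.res U.1) M i n), (cι T M i n U).hom a = z := by
  obtain ⟨U, a, rfl⟩ := exists_rep T z
  obtain ⟨W, hW, hW'⟩ := Directed.directed U U₀
  exact ⟨W, hW', (T.pull (resIdx hW) M i n).hom a, pull_cι T hW a⟩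

theorem exists_eq_of_cι_eq {U U' : Idx X P} {a : T.gp (X.res U.1) M i n}
    {b : T.gp (X.res U'.1) M i n} (h : (cι T M i n U).hom a = (cι T M i n U').hom b) :
    ∃ (W : Idx X P) (hW : W ≤ U) (hW' : W ≤ U'),
      (T.pull (resIdx hW) M i n).hom a = (T.pull (resIdx hW') M i n).hom b := by
  obtain ⟨W, f, g, e⟩ := Concrete.isColimit_exists_of_rep_eq.{u}
    (((idxDiag X P).op ⋙ T.H i n) ⋙ (evaluation A.Cat (ModuleCat.{u} R)).obj M)
    (isColimitOfPreserves ((evaluation A.Cat (ModuleCat.{u} R)).obj M)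
      (colimit.isColimit ((idxDiag X P).op ⋙ T.H i n))) a b h
  exact ⟨W.unop, f.unop.le, g.unop.le, e⟩

theorem cι_eq_zero_iff {U : Idx X P} {a : T.gp (X.res U.1) M i n} :
    (cι T M i n U).hom a = 0 ↔
      ∃ (W : Idx X P) (hW : W ≤ U), (T.pull (resIdx hW) M i n).hom a = 0 := by
  constructor
  · intro h
    obtain ⟨W, hW, hW', e⟩ := exists_eq_of_cι_eq T (a := a) (b := (0 : T.gp (X.res U.1) M i n))
      (h.trans (map_zero _).symm)
    exact ⟨W, hW, e.trans (map_zero _)⟩
  · rintro ⟨W, hW, e⟩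
    rw [← pull_cι T hW, e, map_zero]

end Groth.Agent.BMCoh

end
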