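import Groth.Agent.BMCoh.Induct

/-!
# Push-forward and residue data: their values, and uniqueness
-/

universe u

open CategoryTheory AlgebraicGeometry Opposite CategoryTheory.Limits TopologicalSpace

noncomputable section

namespace Groth.Agent.BMCoh

open _root_.BMCoh

set_option linter.unusedSectionVars false

variable {V : ObjectProperty Scheme.{u}} [hV : IsConstructible V] {R : Type u} [CommRing R]
  {A : Coefs R} {T : PreTheory V R A} {M : A.Cat} {i n i' n' : ℤ} {X : Obj V} {j : ℕ}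

theorem pushCpt_eq (P : T.PushData X j) (x : X.cdPt j) (hi : i' = i + 2 * (j : ℤ))
    (hn : n' = n + (j : ℤ)) (U : Idx X (ContainsFj X j)) (hx : x.1 ∈ U.1)
    (hi' : i' = i + 2 * relCodim ((X.ptSub x.1).res (ptOpen X x.1 U.1)).scheme (X.res U.1).scheme)
    (hn' : n' = n + relCodim ((X.ptSub x.1).res (ptOpen X x.1 U.1)).scheme (X.res U.1).scheme)
    (w : T.gp ((X.ptSub x.1).res (ptOpen X x.1 U.1)) M i n) :
    (P.cpt x M i n i' n' hi hn).hom ((cι T M i n (ptIdxOf X hx)).hom w) =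
      (cι T M i' n' U).hom ((pushPt T X x.1 U.1 M i n i' n' hi' hn').hom w) :=
  congrArg (fun φ ↦ φ.hom w)
    (P.cpt_spec x M i n i' n' hi hn U (ptIdxOf X hx) (X.ptSubι x.1 ∣_ U.1) (morphismRestrict_ι _ _)
      hi' hn')

theorem hi_cdPt (x : X.cdPt j) (hi : i' = i + 2 * (j : ℤ)) {U : X.scheme.Opens}
    (hU : ContainsFj X j U) :
    i' = i + 2 * relCodim ((X.ptSub x.1).res (ptOpen X x.1 U)).scheme (X.res U).scheme := by
  rw [relCodim_piece X (hU x.1 x.2.le) (dim_eq_of_containsFj X hU), x.2, hi]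

theorem hn_cdPt (x : X.cdPt j) (hn : n' = n + (j : ℤ)) {U : X.scheme.Opens}
    (hU : ContainsFj X j U) :
    n' = n + relCodim ((X.ptSub x.1).res (ptOpen X x.1 U)).scheme (X.res U).scheme := by
  rw [relCodim_piece X (hU x.1 x.2.le) (dim_eq_of_containsFj X hU), x.2, hn]

theorem pushData_subsingleton : Subsingleton (T.PushData X j) := by
  refine ⟨fun P P' ↦ ?_⟩
  have key : P.cpt = P'.cpt := by
    funext x M i n i' n' hi hn
    ext z
    have hU : ContainsFj X j ⊤ := fun _ _ ↦ trivial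
    obtain ⟨U, -, hx, hFj, -, w, rfl⟩ :=
      exists_piece_rep T X (k := j) x.2.ge (U₀ := ⊤) (show x.1 ∈ (⊤ : X.scheme.Opens) from trivial) z
    rw [pushCpt_eq P x hi hn (mkFjIdx X U (hFj hU)) hx (hi_cdPt x hi (hFj hU))
      (hn_cdPt x hn (hFj hU)),
      pushCpt_eq P' x hi hn (mkFjIdx X U (hFj hU)) hx (hi_cdPt x hi (hFj hU))
      (hn_cdPt x hn (hFj hU))]
  cases P; cases P'; cases key; rfl

theorem resCpt_eq (Q : T.ResData X j) (x : X.cdPt (j + 1)) (hi : i' = i + 1 - 2 * ((j : ℤ) + 1))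
    (hn : n' = n - ((j : ℤ) + 1)) (U : Idx X (ContainsFj X j)) {U' : X.scheme.Opens}
    (hle : U.1 ≤ U') (hd : WeilCoh.dim (U.1 : Scheme.{u}) = WeilCoh.dim (U' : Scheme.{u}))
    (hp : ∀ y ∈ U', y ∈ U.1 ↔ y ∉ closure ({x.1} : Set X.scheme)) (hx : x.1 ∈ U')
    (hiD : i' = i + 1 - 2 * (ptDecomp X x.1 U.1 U' hle hd hp).codim)
    (hnD : n' = n - (ptDecomp X x.1 U.1 U' hle hd hp).codim) (a : T.gp (X.res U.1) M i n) :
    (Q.cpt x M i n i' n' hi hn).hom ((cι T M i n U).hom a) =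
      (cι T M i' n' (ptIdxOf X hx)).hom
        ((T.res (ptDecomp X x.1 U.1 U' hle hd hp) M i n i' n' hiD hnD).hom a) := by
  have h := congrArg (fun φ ↦ φ.hom a)
    (Q.cpt_spec x M i n i' n' hi hn (X.resι U' (hd.symm.trans U.2.2))
      (ptDecomp X x.1 U.1 U' hle hd hp) (ptIdxOf X hx) (𝟙 ((X.ptSub x.1).res (ptOpen X x.1 U')))
      ((Category.id_comp _).trans (morphismRestrict_ι _ _)) U (𝟙 (X.res U.1))
      ((Category.id_comp _).trans (Scheme.homOfLE_ι _ hle)) hiD hnD)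
  have e1 := pull_id T (M := M) (i := i) (n := n) a
  have e2 := pull_id T (M := M) (i := i') (n := n') (X := (X.ptSub x.1).res (ptOpen X x.1 U'))
    ((T.res (ptDecomp X x.1 U.1 U' hle hd hp) M i n i' n' hiD hnD).hom a)
  exact ((congrArg (fun b ↦ (Q.cpt x M i n i' n' hi hn).hom ((cι T M i n U).hom b)) e1.symm).trans
    h).trans (congrArg (cι T M i' n' (ptIdxOf X hx)).hom e2)

/-- The residue at a point of a class that extends over that point vanishes. -/
theorem resCpt_eq_zero (Q : T.ResData X j) (x : X.cdPt (j + 1))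
    (hi : i' = i + 1 - 2 * ((j : ℤ) + 1)) (hn : n' = n - ((j : ℤ) + 1))
    (U : Idx X (ContainsFj X j)) (hx : x.1 ∈ U.1) (a : T.gp (X.res U.1) M i n) :
    (Q.cpt x M i n i' n' hi hn).hom ((cι T M i n U).hom a) = 0 := by
  let U₀ : X.scheme.Opens :=
    U.1 ⊓ ⟨(closure ({x.1} : Set X.scheme))ᶜ, isClosed_closure.isOpen_compl⟩
  have hU₀ : ContainsFj X j U₀ := by
    intro y hy
    refine ⟨U.2.1 y hy, fun hC ↦ ?_⟩
    have hs : x.1 ⤳ y := specializes_iff_mem_closure.mpr hC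
    rcases eq_or_ne y x.1 with rfl | hne
    · have := x.2; omega
    · have := codim_lt_of_specializes X hs hne
      have := x.2
      omega
  have hle : U₀ ≤ U.1 := inf_le_left
  have hd := (dim_eq_of_containsFj X hU₀).trans U.2.2.symm
  have hp : ∀ y ∈ U.1, y ∈ U₀ ↔ y ∉ closure ({x.1} : Set X.scheme) :=
    fun y hy ↦ ⟨fun h ↦ h.2, fun h ↦ ⟨hy, h⟩⟩
  have hc := codim_ptDecomp X hle hd hp hx (dim_eq_of_containsFj X hU₀)
  have hiD : i' = i + 1 - 2 * (ptDecomp X x.1 U₀ U.1 hle hd hp).codim := by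
    rw [hc, x.2, hi]; push_cast; ring
  have hnD : n' = n - (ptDecomp X x.1 U₀ U.1 hle hd hp).codim := by
    rw [hc, x.2, hn]; push_cast; ring
  rw [← pull_cι T (U := mkFjIdx X U₀ hU₀) hle a,
    resCpt_eq Q x hi hn (mkFjIdx X U₀ hU₀) hle hd hp hx hiD hnD]
  exact (congrArg _ (pull_res T (ptDecomp X x.1 U₀ U.1 hle hd hp) hiD hnD a)).trans (map_zero _)

theorem exists_piece_open {x : X.scheme} (U : Idx X (ContainsFj X j))
    (hx : WeilCoh.codim X.scheme x = j + 1) (hxU : x ∉ U.1) :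
    ∃ (U' : X.scheme.Opens) (_ : U.1 ≤ U') (_ : x ∈ U')
      (_ : WeilCoh.dim (U.1 : Scheme.{u}) = WeilCoh.dim (U' : Scheme.{u})),
      ∀ y ∈ U', y ∈ U.1 ↔ y ∉ closure ({x} : Set X.scheme) := by
  obtain ⟨K, hUK, hxK, hcov, hCU, -⟩ := exists_piece X U.2.1 hx hxU
  have hle : U.1 ≤ (⟨(K : Set X.scheme)ᶜ, K.isClosed.isOpen_compl⟩ : X.scheme.Opens) :=
    fun y hy hK ↦ Set.disjoint_left.mp hUK hy hK
  refine ⟨_, hle, hxK, U.2.2.trans
    (dim_eq_of_containsFj X (fun y hy ↦ hle (U.2.1 y hy))).symm, fun y hy ↦ ⟨?_, ?_⟩⟩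
  · intro h hC
    exact Set.notMem_empty y (hCU ▸ (⟨hC, h⟩ : y ∈ closure ({x} : Set X.scheme) ∩ U.1))
  · intro hC
    by_contra hyU
    exact (hcov y hyU).elim hC hy

theorem hiD_cdPt (x : X.cdPt (j + 1)) (hi : i' = i + 1 - 2 * ((j : ℤ) + 1))
    {U U' : X.scheme.Opens} (hle : U ≤ U')
    (hd : WeilCoh.dim (U : Scheme.{u}) = WeilCoh.dim (U' : Scheme.{u}))
    (hp : ∀ y ∈ U', y ∈ U ↔ y ∉ closure ({x.1} : Set X.scheme)) (hx : x.1 ∈ U')
    (hdU : WeilCoh.dim (U : Scheme.{u}) = WeilCoh.dim X.scheme) :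
    i' = i + 1 - 2 * (ptDecomp X x.1 U U' hle hd hp).codim := by
  rw [codim_ptDecomp X hle hd hp hx hdU, x.2, hi]; push_cast; ring

theorem hnD_cdPt (x : X.cdPt (j + 1)) (hn : n' = n - ((j : ℤ) + 1))
    {U U' : X.scheme.Opens} (hle : U ≤ U')
    (hd : WeilCoh.dim (U : Scheme.{u}) = WeilCoh.dim (U' : Scheme.{u}))
    (hp : ∀ y ∈ U', y ∈ U ↔ y ∉ closure ({x.1} : Set X.scheme)) (hx : x.1 ∈ U')
    (hdU : WeilCoh.dim (U : Scheme.{u}) = WeilCoh.dim X.scheme) :
    n' = n - (ptDecomp X x.1 U U' hle hd hp).codim := by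
  rw [codim_ptDecomp X hle hd hp hx hdU, x.2, hn]; push_cast; ring

theorem resData_subsingleton : Subsingleton (T.ResData X j) := by
  refine ⟨fun Q Q' ↦ ?_⟩
  have key : Q.cpt = Q'.cpt := by
    funext x M i n i' n' hi hn
    ext α
    obtain ⟨U, a, rfl⟩ := exists_rep T α
    by_cases hx : x.1 ∈ U.1
    · rw [resCpt_eq_zero Q x hi hn U hx a, resCpt_eq_zero Q' x hi hn U hx a]
    · obtain ⟨U', hle, hxU', hd, hp⟩ := exists_piece_open U x.2 hx
      rw [resCpt_eq Q x hi hn U hle hd hp hxU' (hiD_cdPt x hi hle hd hp hxU' U.2.2)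
          (hnD_cdPt x hn hle hd hp hxU' U.2.2),
        resCpt_eq Q' x hi hn U hle hd hp hxU' (hiD_cdPt x hi hle hd hp hxU' U.2.2)
          (hnD_cdPt x hn hle hd hp hxU' U.2.2)]
  cases Q; cases Q'; cases key; rfl

/-- Exactness at `H(F_j X)` of restriction followed by the total residue. -/
theorem exact_res_tot (Q : T.ResData X j) (hi : i' = i + 1 - 2 * ((j : ℤ) + 1))
    (hn : n' = n - ((j : ℤ) + 1)) :
    Function.Exact ((T.fjRes X (Nat.le_succ j) i n).app M).hom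
      (Q.tot M i n i' n' hi hn).hom := by
  intro α
  constructor
  · intro h
    refine mem_range_fjRes T X hi hn α fun x hx U U' hle hd hp hxU hiD hnD a ha ↦ ?_
    rw [← resCpt_eq Q ⟨x, hx⟩ hi hn U hle hd hp hxU hiD hnD a, ha]
    exact (PreTheory.ResData.tot_apply Q M i n i' n' hi hn α ⟨x, hx⟩).symm.trans
      (by rw [h]; rfl)
  · rintro ⟨β, rfl⟩
    obtain ⟨U, b, rfl⟩ := exists_rep T β
    refine DFinsupp.ext fun x ↦ ?_
    rw [PreTheory.ResData.tot_apply, ocolimMap_cι,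
      resCpt_eq_zero Q x hi hn ⟨U.1, containsFj_mono X (Nat.le_succ j) U.1 U.2.1, U.2.2⟩
        (U.2.1 x.1 x.2.le) b]
    rfl

/-- Exactness at `H(F_{j+1} X)` of the total push-forward followed by restriction. -/
theorem exact_tot_res (P : T.PushData X (j + 1)) (hi : i' = i + 2 * ((j + 1 : ℕ) : ℤ))
    (hn : n' = n + ((j + 1 : ℕ) : ℤ)) :
    Function.Exact (P.tot M i n i' n' hi hn).hom
      ((T.fjRes X (Nat.le_succ j) i' n').app M).hom := by
  classical
  intro α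
  constructor
  · intro h
    refine ker_fjRes_le T X (i' := i) (n' := n) (by rw [hi]; push_cast; ring)
      (by rw [hn]; push_cast; ring) (LinearMap.range (P.tot M i n i' n' hi hn).hom)
      (fun x hx U w ↦ ⟨DirectSum.lof R _ (fun y : X.cdPt (j + 1) => T.ptGp X y.1 M i n) ⟨x, hx⟩
        ((cι T M i n (ptIdxOf X (U.2.1 x hx.le))).hom w), ?_⟩) α h
    rw [PreTheory.PushData.tot_lof]
    exact pushCpt_eq P ⟨x, hx⟩ hi hn U (U.2.1 x hx.le) _ _ w
  · rintro ⟨ξ, rfl⟩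
    induction ξ using DirectSum.induction_on with
    | zero => simp
    | add a b ha hb => rw [map_add, map_add, ha, hb, add_zero]
    | of x z =>
      rw [← DirectSum.lof_eq_of R, PreTheory.PushData.tot_lof]
      have hU : ContainsFj X (j + 1) ⊤ := fun _ _ ↦ trivial
      obtain ⟨U, -, hx, hFj, -, w, rfl⟩ := exists_piece_rep T X (k := j + 1) x.2.ge (U₀ := ⊤)
        (show x.1 ∈ (⊤ : X.scheme.Opens) from trivial) z
      rw [pushCpt_eq P x hi hn (mkFjIdx X U (hFj hU)) hx (hi_cdPt x hi (hFj hU))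
        (hn_cdPt x hn (hFj hU)), ocolimMap_cι]
      let U₀ : X.scheme.Opens :=
        U ⊓ ⟨(closure ({x.1} : Set X.scheme))ᶜ, isClosed_closure.isOpen_compl⟩
      have hU₀ : ContainsFj X j U₀ := by
        intro y hy
        refine ⟨hFj hU y (hy.trans (Nat.le_succ j)), fun hC ↦ ?_⟩
        rcases eq_or_ne y x.1 with rfl | hne
        · have := x.2; omega
        · have := codim_lt_of_specializes X (specializes_iff_mem_closure.mpr hC) hne
          have := x.2
          omega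
      rw [cι_eq_zero_iff]
      refine ⟨mkFjIdx X U₀ hU₀, inf_le_left (a := U), ?_⟩
      exact ((exact_push_pull' T (ptDecomp X x.1 U₀ U inf_le_left
        ((dim_eq_of_containsFj X hU₀).trans (dim_eq_of_containsFj X (hFj hU)).symm)
        fun y hy ↦ ⟨fun h ↦ h.2, fun h ↦ ⟨hy, h⟩⟩) (hi_cdPt x hi (hFj hU))
        (hn_cdPt x hn (hFj hU))) _).mpr ⟨w, rfl⟩

end Groth.Agent.BMCoh

end
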