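import Groth.Agent.BMCoh.Induct

/-!
# Consequences of vanishing of the groups of points
-/

universe u

open CategoryTheory AlgebraicGeometry Opposite CategoryTheory.Limits TopologicalSpace

noncomputable section

namespace Groth.Agent.BMCoh

open _root_.BMCoh

set_option linter.unusedSectionVars false

variable {V : ObjectProperty Scheme.{u}} [hV : IsConstructible V] {R : Type u} [CommRing R]
  {A : Coefs R} (T : PreTheory V R A) {M : A.Cat} {i n : ℤ} (X : Obj V)

theorem eq_zero_of_isZero {N : ModuleCat.{u} R} (h : IsZero N) (a : N) : a = 0 :=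
  have := ModuleCat.subsingleton_of_isZero h
  Subsingleton.elim _ _

theorem fjRes_surjective_of_isZero {j : ℕ}
    (h1 : ∀ x : X.scheme, WeilCoh.codim X.scheme x = j + 1 →
      IsZero (T.ptGp X x M (i + 1 - 2 * ((j : ℤ) + 1)) (n - ((j : ℤ) + 1)))) :
    Function.Surjective ((T.fjRes X (Nat.le_succ j) i n).app M).hom := fun α ↦
  mem_range_fjRes T X rfl rfl α fun x hx _ _ _ _ _ _ _ _ _ _ ↦ eq_zero_of_isZero (h1 x hx) _

theorem fjRes_injective_of_isZero {j : ℕ}
    (h0 : ∀ x : X.scheme, WeilCoh.codim X.scheme x = j + 1 →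
      IsZero (T.ptGp X x M (i - 2 * ((j : ℤ) + 1)) (n - ((j : ℤ) + 1)))) :
    Function.Injective ((T.fjRes X (Nat.le_succ j) i n).app M).hom := by
  rw [injective_iff_map_eq_zero]
  intro α hα
  refine (Submodule.mem_bot R).mp (ker_fjRes_le T X (i' := i - 2 * ((j : ℤ) + 1))
    (n' := n - ((j : ℤ) + 1)) (by ring) (by ring) ⊥ (fun x hx U w ↦ ?_) α hα)
  rw [Submodule.mem_bot]
  obtain ⟨U₂, hle, hxU₂, hFj, -, hw⟩ := exists_piece_eq_zero T X (k := j + 1) hx.ge
    (U.2.1 x hx.le) w (eq_zero_of_isZero (h0 x hx) _)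
  rw [cι_pushPt T X (U := mkFjIdx X U₂ (hFj U.2.1)) (U' := U) hle hxU₂ w _ _
    (hi_piece X hx hxU₂ (dim_eq_of_containsFj X (hFj U.2.1)) (by ring))
    (hn_piece X hx hxU₂ (dim_eq_of_containsFj X (hFj U.2.1)) (by ring))]
  erw [hw]
  rw [map_zero, map_zero]

theorem fjRes_comp {j k m : ℕ} (h₁ : j ≤ k) (h₂ : k ≤ m) (β : T.fjGp X m M i n) :
    ((T.fjRes X h₁ i n).app M).hom (((T.fjRes X h₂ i n).app M).hom β) =
      ((T.fjRes X (h₁.trans h₂) i n).app M).hom β := by
  obtain ⟨U, b, rfl⟩ := exists_rep T β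
  rw [ocolimMap_cι, ocolimMap_cι, ocolimMap_cι]

theorem fjRes_toFj {j m : ℕ} (h : j ≤ m) (a : T.gp X M i n) :
    ((T.fjRes X h i n).app M).hom (((T.toFj X m i n).app M).hom a) =
      ((T.toFj X j i n).app M).hom a := by
  change ((T.fjRes X h i n).app M).hom ((cι T M i n _).hom _) = (cι T M i n _).hom _
  rw [ocolimMap_cι]

theorem toFj_apply (j : ℕ) (a : T.gp X M i n) :
    ((T.toFj X j i n).app M).hom a =
      (cι T M i n (⟨⊤, fun _ _ => trivial, dim_top X.scheme⟩ : Idx X (ContainsFj X j))).hom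
        ((T.pull X.resTop M i n).hom a) :=
  rfl

theorem pull_bijective_of_isIso {X Y : Obj V} (f : X ⟶ Y) [IsIso f.hom] :
    Function.Bijective (T.pull f M i n).hom := by
  let g : Y ⟶ X := ⟨inv f.hom, inferInstance, f.dim_eq.symm⟩
  refine ⟨fun a b e ↦ ?_, fun a ↦ ⟨(T.pull g M i n).hom a, ?_⟩⟩
  · have h : g ≫ f = 𝟙 Y := Hom.ext (IsIso.inv_hom_id f.hom)
    have := congrArg (T.pull g M i n).hom e
    rwa [pull_pull, pull_pull, h, pull_id, pull_id] at this
  · have h : f ≫ g = 𝟙 X := Hom.ext (IsIso.hom_inv_id f.hom)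
    rw [pull_pull, h, pull_id]

theorem toFj_bijective_of_dim_le {m : ℕ} (hm : WeilCoh.dim X.scheme ≤ m) :
    Function.Bijective ((T.toFj X m i n).app M).hom := by
  have : IsIso X.resTop.hom := (inferInstance : IsIso X.scheme.topIso.hom)
  have htop : ∀ U : Idx X (ContainsFj X m), U.1 = ⊤ := fun U ↦ by
    ext y
    exact iff_of_true (U.2.1 y ((codim_le_dim X y).trans hm)) trivial
  let T0 : Idx X (ContainsFj X m) := ⟨⊤, fun _ _ => trivial, dim_top X.scheme⟩
  have hbij : Function.Bijective (cι T M i n T0).hom := by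
    constructor
    · rw [injective_iff_map_eq_zero]
      intro a ha
      obtain ⟨W, hW, e⟩ := (cι_eq_zero_iff T).mp ha
      obtain rfl : W = T0 := Subtype.ext (htop W)
      refine (pull_resLE_bijective T X hW le_rfl (dim_top_eq_self X)).1 ?_
      rw [e, map_zero]
    · intro α
      obtain ⟨U, a, rfl⟩ := exists_rep T α
      obtain rfl : U = T0 := Subtype.ext (htop U)
      exact ⟨a, rfl⟩
  exact hbij.comp (pull_bijective_of_isIso T X.resTop)
where
  dim_top_eq_self (X : Obj V) : WeilCoh.dim ((⊤ : X.scheme.Opens) : Scheme.{u}) =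
      WeilCoh.dim ((⊤ : X.scheme.Opens) : Scheme.{u}) := rfl

theorem toFj_bijective {j : ℕ} (hj : i ≤ 2 * (j : ℤ))
    (hvan : ∀ (x : X.scheme) (k n : ℤ), k < 0 → IsZero (T.ptGp X x M k n)) :
    Function.Bijective ((T.toFj X j i n).app M).hom := by
  have step : ∀ k, j ≤ k → Function.Bijective ((T.fjRes X (Nat.le_succ k) i n).app M).hom := by
    intro k hk
    exact ⟨fjRes_injective_of_isZero T X fun x _ ↦ hvan x _ _ (by omega),
      fjRes_surjective_of_isZero T X fun x _ ↦ hvan x _ _ (by omega)⟩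
  have all : ∀ d, Function.Bijective ((T.fjRes X (Nat.le_add_right j d) i n).app M).hom := by
    intro d
    induction d with
    | zero =>
      have : ⇑((T.fjRes X (Nat.le_add_right j 0) i n).app M).hom = id := by
        funext β
        obtain ⟨U, b, rfl⟩ := exists_rep T β
        rw [ocolimMap_cι]
        rfl
      rw [this]; exact Function.bijective_id
    | succ d ih =>
      have := ih.comp (step (j + d) (Nat.le_add_right j d))
      have e : ⇑((T.fjRes X (Nat.le_add_right j d) i n).app M).hom ∘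
          ⇑((T.fjRes X (Nat.le_succ (j + d)) i n).app M).hom =
          ⇑((T.fjRes X (Nat.le_add_right j (d + 1)) i n).app M).hom :=
        funext fun β ↦ fjRes_comp T X (Nat.le_add_right j d) (Nat.le_succ (j + d)) β
      rw [e] at this
      exact this
  have h := (all (WeilCoh.dim X.scheme)).comp
    (toFj_bijective_of_dim_le T X (Nat.le_add_left _ j) (M := M) (i := i) (n := n))
  convert h using 1
  funext a
  exact (fjRes_toFj T X _ a).symm

theorem pull_open_bijective_of_containsFj {j : ℕ} (hj : i ≤ 2 * (j : ℤ))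
    (hvan : ∀ (Y : Obj V) (y : Y.scheme) (k n : ℤ), k < 0 → IsZero (T.ptGp Y y M k n))
    {U₀ : X.scheme.Opens} (hU₀ : ContainsFj X j U₀) :
    Function.Bijective
      (T.pull (X.resι U₀ (dim_eq_of_containsFj X hU₀)) M i n).hom := by
  let I : Idx X (ContainsFj X j) := mkFjIdx X U₀ hU₀
  let r := X.resι U₀ (dim_eq_of_containsFj X hU₀)
  have hfac : ∀ a : T.gp X M i n,
      (cι T M i n I).hom ((T.pull r M i n).hom a) = ((T.toFj X j i n).app M).hom a := by
    intro a
    rw [toFj_apply]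
    refine Eq.trans ?_ (pull_cι T (U := I)
      (U' := ⟨⊤, fun _ _ => trivial, dim_top X.scheme⟩) (show U₀ ≤ ⊤ from le_top)
      ((T.pull X.resTop M i n).hom a))
    rw [pull_pull]
    exact congrArg (cι T M i n I).hom
      (pull_congr T (Scheme.homOfLE_ι X.scheme (show U₀ ≤ ⊤ from le_top)) a).symm
  have hb := toFj_bijective T X (j := j) (i := i) (n := n) hj (hvan X)
  constructor
  · intro a b e
    exact hb.1 (by rw [← hfac, ← hfac, e])
  · intro b
    obtain ⟨a, ha⟩ := hb.2 ((cι T M i n I).hom b)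
    refine ⟨a, ?_⟩
    rw [← hfac] at ha
    have h0 : (cι T M i n I).hom (b - (T.pull r M i n).hom a) = 0 := by
      rw [map_sub, ha, sub_self]
    obtain ⟨W, hW, e⟩ := (cι_eq_zero_iff T).mp h0
    set b' := b - (T.pull r M i n).hom a
    suffices h : b' = 0 from (sub_eq_zero.mp h).symm
    let Y := X.res U₀
    let W' : Y.scheme.Opens := U₀.ι ⁻¹ᵁ W.1
    have hW' : ContainsFj Y j W' := by
      intro y hy
      apply W.2.1 (U₀.ι y)
      have h1 := pdim_eq_of_isOpenImmersion X U₀.ι y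
      simp only [WeilCoh.codim] at hy ⊢
      rw [h1]
      rwa [show WeilCoh.dim Y.scheme = WeilCoh.dim X.scheme from dim_eq_of_containsFj X hU₀] at hy
    apply (toFj_bijective T Y (j := j) (i := i) (n := n) hj (hvan Y)).1
    rw [map_zero]
    rw [toFj_apply]
    rw [← pull_cι T (U := mkFjIdx Y W' hW') (U' := ⟨⊤, fun _ _ => trivial, dim_top Y.scheme⟩)
      (fun _ _ ↦ trivial), pull_pull]
    have hrange : Set.range (W'.ι ≫ U₀.ι) ⊆ Set.range W.1.ι := by
      rintro _ ⟨z, rfl⟩
      rw [Scheme.Opens.range_ι]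
      exact z.2
    let e' : Y.res W' ⟶ X.res W.1 :=
      ⟨IsOpenImmersion.lift W.1.ι (W'.ι ≫ U₀.ι) hrange, by
        have : IsOpenImmersion (IsOpenImmersion.lift W.1.ι (W'.ι ≫ U₀.ι) hrange ≫ W.1.ι) := by
          rw [IsOpenImmersion.lift_fac]; infer_instance
        exact IsOpenImmersion.of_comp _ W.1.ι,
        (dim_eq_of_containsFj Y hW').trans ((dim_eq_of_containsFj X hU₀).trans W.2.2.symm)⟩
    have hfacU : ∀ h : W' ≤ (⊤ : Y.scheme.Opens),
        Y.scheme.homOfLE h ≫ (⊤ : Y.scheme.Opens).ι =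
          IsOpenImmersion.lift W.1.ι (W'.ι ≫ U₀.ι) hrange ≫ X.scheme.homOfLE hW := by
      intro h
      apply (cancel_mono U₀.ι).mp
      calc (Y.scheme.homOfLE h ≫ (⊤ : Y.scheme.Opens).ι) ≫ U₀.ι = W'.ι ≫ U₀.ι := by
            rw [Scheme.homOfLE_ι]
        _ = IsOpenImmersion.lift W.1.ι (W'.ι ≫ U₀.ι) hrange ≫ W.1.ι :=
            (IsOpenImmersion.lift_fac _ _ _).symm
        _ = (IsOpenImmersion.lift W.1.ι (W'.ι ≫ U₀.ι) hrange ≫ X.scheme.homOfLE hW) ≫ U₀.ι := by
            rw [Category.assoc]; congr 1; exact (Scheme.homOfLE_ι _ hW).symm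
    rw [pull_congr T (g := e' ≫ resIdx hW) (hfacU le_top), ← pull_pull, e, map_zero, map_zero]

end Groth.Agent.BMCoh

end
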