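import Groth.Agent.BMCoh.FamData
import Groth.Agent.BMCoh.Vanish

/-!
# Exactness at the direct sum over the points of one codimension, and the level zero
-/

universe u

open CategoryTheory AlgebraicGeometry Opposite CategoryTheory.Limits TopologicalSpace DirectSum

noncomputable section

namespace Groth.Agent.BMCoh

open _root_.BMCoh

set_option linter.unusedSectionVars false

variable {V : ObjectProperty Scheme.{u}} [hV : IsConstructible V] {R : Type u} [CommRing R]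
  {A : Coefs R} {T : PreTheory V R A} {M : A.Cat} {i n i' n' : ℤ} {X : Obj V} {j k : ℕ}

theorem exists_finset_support (ξ : T.ptSum X k M i n) :
    ∃ S : Finset X.scheme, (∀ x ∈ S, WeilCoh.codim X.scheme x = k) ∧
      ∀ x : X.cdPt k, x.1 ∉ S → ξ x = 0 := by
  classical
  refine ⟨(DFinsupp.support ξ).image Subtype.val, fun x hx ↦ ?_, fun x hx ↦ ?_⟩
  · obtain ⟨y, -, rfl⟩ := Finset.mem_image.mp hx
    exact y.2
  · by_contra h
    exact hx (Finset.mem_image.mpr ⟨x, DFinsupp.mem_support_toFun ξ x |>.mpr h, rfl⟩)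

theorem eq_sum_lof [DecidableEq (X.cdPt k)] (S : Finset X.scheme)
    (hS : ∀ x ∈ S, WeilCoh.codim X.scheme x = k) (ξ : T.ptSum X k M i n)
    (h0 : ∀ x : X.cdPt k, x.1 ∉ S → ξ x = 0) :
    ξ = ∑ t : {x // x ∈ S}, DirectSum.lof R (X.cdPt k) (fun y : X.cdPt k => T.ptGp X y.1 M i n)
      ⟨t.1, hS t.1 t.2⟩ (ξ ⟨t.1, hS t.1 t.2⟩) := by
  refine DFinsupp.ext fun x ↦ ?_
  rw [DirectSum.sum_apply]
  by_cases hx : x.1 ∈ S
  · rw [Finset.sum_eq_single (⟨x.1, hx⟩ : {x // x ∈ S})]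
    · exact (DirectSum.of_eq_same (β := fun y : X.cdPt k => T.ptGp X y.1 M i n) x _).symm
    · intro t _ ht
      rw [DirectSum.lof_eq_of, DirectSum.of_eq_of_ne]
      exact fun e ↦ ht (Subtype.ext (congrArg Subtype.val e).symm)
    · exact fun h ↦ absurd (Finset.mem_univ _) h
  · rw [h0 x hx, Finset.sum_eq_zero]
    intro t _
    rw [DirectSum.lof_eq_of, DirectSum.of_eq_of_ne]
    exact fun e ↦ hx (congrArg Subtype.val e ▸ t.2)

/-- Classes of finitely many points of one codimension live on one separated open. -/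
theorem exists_common_rep (S : Finset X.scheme) (hS : ∀ x ∈ S, WeilCoh.codim X.scheme x = k)
    (U₀ : X.scheme.Opens) (hU₀ : ContainsFj X k U₀) (ξ : ∀ t : {x // x ∈ S}, T.ptGp X t.1 M i n) :
    ∃ (U : X.scheme.Opens) (_ : U ≤ U₀) (hU : ContainsFj X k U) (_ : Separated X S U)
      (w : ∀ t : {x // x ∈ S}, T.gp ((X.ptSub t.1).res (ptOpen X t.1 U)) M i n),
      ∀ t : {x // x ∈ S}, (cι T M i n (ptIdxOf X (hU t.1 (hS t.1 t.2).le))).hom (w t) = ξ t := by
  obtain ⟨U₁, hle₁, hU₁, hsep⟩ := exists_separated X S hS U₀ hU₀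
  have h : ∀ t : {x // x ∈ S}, ∃ (U : X.scheme.Opens) (_ : ContainsFj X k U) (hx : t.1 ∈ U)
      (w : T.gp ((X.ptSub t.1).res (ptOpen X t.1 U)) M i n),
      (cι T M i n (ptIdxOf X hx)).hom w = ξ t := by
    intro t
    obtain ⟨U, -, hx, hFj, -, w, hw⟩ := exists_piece_rep T X (k := k) (hS t.1 t.2).ge
      (hU₁ t.1 (hS t.1 t.2).le) (ξ t)
    exact ⟨U, hFj hU₁, hx, w, hw⟩
  choose V hV hxV w hw using h
  let U : X.scheme.Opens := U₁ ⊓ ⟨⋂ t, (V t : Set X.scheme),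
    isOpen_iInter_of_finite fun t ↦ (V t).2⟩
  have hUV : ∀ t, U ≤ V t := fun t y hy ↦ Set.mem_iInter.mp hy.2 t
  have hU : ContainsFj X k U := fun y hy ↦
    ⟨hU₁ y hy, Set.mem_iInter.mpr fun t ↦ hV t y hy⟩
  refine ⟨U, fun y hy ↦ hle₁ hy.1, hU, fun x hx y hy hne z hz ↦ hsep x hx y hy hne z hz.1,
    fun t ↦ (T.pull (resPt X (hUV t) (hU t.1 (hS t.1 t.2).le)) M i n).hom (w t), fun t ↦ ?_⟩
  rw [pull_resPt_cι]
  exact hw t

theorem separated_mono {S : Finset X.scheme} {U U' : X.scheme.Opens} (h : U ≤ U')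
    (hs : Separated X S U') : Separated X S U :=
  fun x hx y hy hne z hz ↦ hs x hx y hy hne z (h hz)

theorem codim_famDecomp {S : Finset X.scheme} (hS : ∀ x ∈ S, WeilCoh.codim X.scheme x = j + 1)
    {U : X.scheme.Opens} (hU : ContainsFj X (j + 1) U) (hne : S.Nonempty)
    (U₀ : X.scheme.Opens) (hle : U₀ ≤ U)
    (hd : WeilCoh.dim (U₀ : Scheme.{u}) = WeilCoh.dim (U : Scheme.{u}))
    (h : ∀ y ∈ U, y ∈ U₀ ↔ y ∉ closuresUnion X S) :
    (famDecomp U₀ hle hd h).codim = (j : ℤ) + 1 := by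
  have := hn_famZ (X := X) (k := j + 1) (S := S) (U := U) (n' := 0) (n := ((j + 1 : ℕ) : ℤ)) hne
    (by ring) hS hU
  rw [zero_add] at this
  exact this.symm.trans (by push_cast; rfl)

/-- Exactness at the sum over the points of codimension `j + 1`. -/
theorem exact_tot_tot (Q : T.ResData X j) (P : T.PushData X (j + 1))
    (hi : i' = i + 1 - 2 * ((j : ℤ) + 1)) (hn : n' = n - ((j : ℤ) + 1))
    (hi2 : i + 1 = i' + 2 * ((j + 1 : ℕ) : ℤ)) (hn2 : n = n' + ((j + 1 : ℕ) : ℤ)) :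
    Function.Exact (Q.tot M i n i' n' hi hn).hom (P.tot M i' n' (i + 1) n hi2 hn2).hom := by
  classical
  intro ξ
  constructor
  · intro hξ
    obtain ⟨S, hS, h0⟩ := exists_finset_support ξ
    rcases S.eq_empty_or_nonempty with rfl | hne
    · exact ⟨0, by rw [map_zero]; exact (DFinsupp.ext fun x ↦ h0 x (by simp)).symm⟩
    obtain ⟨U, -, hU, hsep, w, hw⟩ :=
      exists_common_rep S hS ⊤ (fun _ _ ↦ trivial) (fun t ↦ ξ ⟨t.1, hS t.1 t.2⟩)
    let c : T.gp (X.res U) M (i + 1) n := ∑ t : {x // x ∈ S},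
      (pushPt T X t.1 U M i' n' (i + 1) n (hi_cdPt ⟨t.1, hS t.1 t.2⟩ hi2 hU)
        (hn_cdPt ⟨t.1, hS t.1 t.2⟩ hn2 hU)).hom (w t)
    have hc : (cι T M (i + 1) n (mkFjIdx X U hU)).hom c = 0 := by
      rw [eq_sum_lof S hS ξ h0, map_sum] at hξ
      rw [← hξ, map_sum]
      refine Finset.sum_congr rfl fun t _ ↦ ?_
      rw [PreTheory.PushData.tot_lof, ← hw t]
      exact (pushCpt_eq P ⟨t.1, hS t.1 t.2⟩ hi2 hn2 (mkFjIdx X U hU) (hU t.1 (hS t.1 t.2).le)
        _ _ (w t)).symm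
    obtain ⟨W, hW, hWc⟩ := (cι_eq_zero_iff T).mp hc
    have hWsep := separated_mono (show W.1 ≤ U from hW) hsep
    have hxW : ∀ t : {x // x ∈ S}, t.1 ∈ W.1 := fun t ↦ W.2.1 t.1 (hS t.1 t.2).le
    let w' : ∀ t : {x // x ∈ S}, T.gp ((X.ptSub t.1).res (ptOpen X t.1 W.1)) M i' n' :=
      fun t ↦ (T.pull (resPt X (show W.1 ≤ U from hW) (hxW t)) M i' n').hom (w t)
    let z := ∑ t : {x // x ∈ S}, (memberPush T hS W.2.1 hWsep t M i' n').hom (w' t)
    have hz : (T.push (famZι X S W.1) M i' n' (i + 1) n (hi_famZ hne hi2 hS W.2.1)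
        (hn_famZ hne hn2 hS W.2.1)).hom z = 0 := by
      rw [push_sum_memberPush T hS W.2.1 hWsep hi2 hn2 hne w'
        (fun t ↦ hi_cdPt ⟨t.1, hS t.1 t.2⟩ hi2 W.2.1) (fun t ↦ hn_cdPt ⟨t.1, hS t.1 t.2⟩ hn2 W.2.1)]
      rw [← hWc, map_sum]
      exact Finset.sum_congr rfl fun t _ ↦ (pushPt_pull T X _ _ _ _ _ _ _ (w t)).symm
    let U₀ : X.scheme.Opens := W.1 ⊓ ⟨((closuresUnion X S : TopologicalSpace.Closeds X.scheme) :
      Set X.scheme)ᶜ, (closuresUnion X S).isClosed.isOpen_compl⟩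
    have hnotmem : ∀ y, WeilCoh.codim X.scheme y ≤ j → y ∉ closuresUnion X S := by
      intro y hy hK
      obtain ⟨x, hx, hyx⟩ := (mem_closuresUnion X S).mp hK
      rcases eq_or_ne y x with rfl | hne
      · have := hS y hx; omega
      · have := codim_lt_of_specializes X (specializes_iff_mem_closure.mpr hyx) hne
        have := hS x hx
        omega
    have hU₀ : ContainsFj X j U₀ := fun y hy ↦ ⟨W.2.1 y (hy.trans (Nat.le_succ j)), hnotmem y hy⟩
    have hle : U₀ ≤ W.1 := inf_le_left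
    have hd : WeilCoh.dim (U₀ : Scheme.{u}) = WeilCoh.dim (W.1 : Scheme.{u}) :=
      (dim_eq_of_containsFj X hU₀).trans W.2.2.symm
    have hp : ∀ y ∈ W.1, y ∈ U₀ ↔ y ∉ closuresUnion X S :=
      fun y hy ↦ ⟨fun h ↦ h.2, fun h ↦ ⟨hy, h⟩⟩
    have hcd := codim_famDecomp hS W.2.1 hne U₀ hle hd hp
    obtain ⟨a, ha⟩ := push_zero_exists_res T (famDecomp U₀ hle hd hp) (i := i) (n := n)
      (show i' = i + 1 - 2 * (famDecomp U₀ hle hd hp).codim by rw [hcd, hi])
      (show n' = n - (famDecomp U₀ hle hd hp).codim by rw [hcd, hn])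
      (hi_famZ hne hi2 hS W.2.1) (hn_famZ hne hn2 hS W.2.1) z hz
    refine ⟨(cι T M i n (mkFjIdx X U₀ hU₀)).hom a, DFinsupp.ext fun x ↦ ?_⟩
    rw [PreTheory.ResData.tot_apply]
    by_cases hx : x.1 ∈ S
    · rw [resCpt_eq_member T (hU := W.2.1) (hsep := hWsep) (hS := hS) Q x hx hi hn (mkFjIdx X U₀ hU₀)
        hle hd hp (by rw [hcd, hi]) (by rw [hcd, hn]) a, ha]
      erw [pull_sum_memberPush T hS W.2.1 hWsep w' ⟨x.1, hx⟩]
      exact (pull_resPt_cι T X _ _ _).trans (hw ⟨x.1, hx⟩)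
    · rw [h0 x hx]
      refine resCpt_eq_zero Q x hi hn (mkFjIdx X U₀ hU₀) ⟨W.2.1 x.1 x.2.le, fun hK ↦ ?_⟩ a
      obtain ⟨y, hy, hxy⟩ := (mem_closuresUnion X S).mp hK
      rcases eq_or_ne x.1 y with rfl | hne
      · exact hx hy
      · have := codim_lt_of_specializes X (specializes_iff_mem_closure.mpr hxy) hne
        have := hS y hy
        have := x.2
        omega
  · rintro ⟨α, rfl⟩
    obtain ⟨U, a, rfl⟩ := exists_rep T α
    let S := (finite_codim_compl X U.2.1).toFinset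
    have hS' : ∀ x, x ∈ S ↔ x ∉ U.1 ∧ WeilCoh.codim X.scheme x = j + 1 :=
      fun x ↦ Set.Finite.mem_toFinset _
    have hS : ∀ x ∈ S, WeilCoh.codim X.scheme x = j + 1 := fun x hx ↦ ((hS' x).mp hx).2
    have h0 : ∀ x : X.cdPt (j + 1), x.1 ∉ S →
        (Q.tot M i n i' n' hi hn).hom ((cι T M i n U).hom a) x = 0 := fun x hx ↦ by
      rw [PreTheory.ResData.tot_apply]
      exact resCpt_eq_zero Q x hi hn U (by_contra fun h ↦ hx ((hS' _).mpr ⟨h, x.2⟩)) a
    rcases S.eq_empty_or_nonempty with hemp | hne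
    · have : (Q.tot M i n i' n' hi hn).hom ((cι T M i n U).hom a) = 0 :=
        DFinsupp.ext fun x ↦ h0 x (by rw [hemp]; simp)
      rw [this, map_zero]
    obtain ⟨U', hle, hU', hsep, hp⟩ := exists_separated_extension X U S hS'
    have hd : WeilCoh.dim (U.1 : Scheme.{u}) = WeilCoh.dim (U' : Scheme.{u}) :=
      U.2.2.trans (dim_eq_of_containsFj X hU').symm
    have hcd := codim_famDecomp hS hU' hne U.1 hle hd hp
    have hiD : i' = i + 1 - 2 * (famDecomp U.1 hle hd hp).codim := by rw [hcd, hi]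
    have hnD : n' = n - (famDecomp U.1 hle hd hp).codim := by rw [hcd, hn]
    let r := (T.res (famDecomp U.1 hle hd hp) M i n i' n' hiD hnD).hom a
    have hr : (T.push (famZι X S U') M i' n' (i + 1) n (hi_famZ hne hi2 hS hU')
        (hn_famZ hne hn2 hS hU')).hom r = 0 :=
      res_push_zero T (famDecomp U.1 hle hd hp) hiD hnD (hi_famZ hne hi2 hS hU')
        (hn_famZ hne hn2 hS hU') a
    rw [eq_sum_memberPush T hS hU' hsep r, push_sum_memberPush T hS hU' hsep hi2 hn2 hne _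
      (fun t ↦ hi_cdPt ⟨t.1, hS t.1 t.2⟩ hi2 hU') (fun t ↦ hn_cdPt ⟨t.1, hS t.1 t.2⟩ hn2 hU')] at hr
    rw [eq_sum_lof S hS _ h0, map_sum]
    refine Eq.trans ?_ ((congrArg (cι T M (i + 1) n (mkFjIdx X U' hU')).hom hr).trans (map_zero _))
    rw [map_sum]
    refine Finset.sum_congr rfl fun t _ ↦ ?_
    rw [PreTheory.PushData.tot_lof, PreTheory.ResData.tot_apply,
      resCpt_eq_member T (hU := hU') (hsep := hsep) (hS := hS) Q ⟨t.1, hS t.1 t.2⟩ t.2 hi hn U hle hd hp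
        hiD hnD a]
    exact pushCpt_eq P ⟨t.1, hS t.1 t.2⟩ hi2 hn2 (mkFjIdx X U' hU') _ _ _ _

section LevelZero

theorem maximal_of_codim_zero {x y : X.scheme} (hx : WeilCoh.codim X.scheme x = 0) (h : y ⤳ x) :
    y = x := by
  by_contra hne
  have := codim_lt_of_specializes X h (Ne.symm hne)
  omega

theorem finite_codim_zero (X : Obj V) : {x : X.scheme | WeilCoh.codim X.scheme x = 0}.Finite :=
  (finite_maximal X ⊤).subset fun _ hx ↦ ⟨trivial, fun _ _ h ↦ maximal_of_codim_zero hx h⟩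

/-- The points of codimension zero. -/
def genPts (X : Obj V) : Finset X.scheme := (finite_codim_zero X).toFinset

theorem mem_genPts {x : X.scheme} : x ∈ genPts X ↔ WeilCoh.codim X.scheme x = 0 :=
  Set.Finite.mem_toFinset _

theorem genPts_nonempty [Nonempty X.scheme] : (genPts X).Nonempty := by
  obtain ⟨y, hy⟩ := exists_pdim_eq_dim (dim_lt_top X)
  exact ⟨y, mem_genPts.mpr (by simp [WeilCoh.codim, hy])⟩

theorem exists_generization_maximal (X : Obj V) (z : X.scheme) :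
    ∃ g, g ⤳ z ∧ ∀ y, y ⤳ g → y = g := by
  obtain ⟨g, hg⟩ := QuasiSober.sober (isIrreducible_irreducibleComponent (x := z))
    isClosed_irreducibleComponent
  refine ⟨g, hg.specializes mem_irreducibleComponent, fun y hy ↦ ?_⟩
  have hsub : irreducibleComponent z ⊆ closure {y} := by
    rw [← hg.def]
    exact specializes_iff_closure_subset.mp hy
  have := eq_irreducibleComponent (isIrreducible_singleton (x := y)).closure.isPreirreducible hsub
  exact (IsGenericPoint.eq hg (this : closure {y} = irreducibleComponent z)).symm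

/-- An open around the points of codimension zero covered by their closures. -/
theorem exists_open_le_closures (X : Obj V) :
    ∃ U : X.scheme.Opens, ContainsFj X 0 U ∧ ∀ y ∈ U, y ∈ closuresUnion X (genPts X) := by
  obtain ⟨S₁, hS₁⟩ : ∃ S₁ : Finset X.scheme,
      ∀ x, x ∈ S₁ ↔ (∀ y, y ⤳ x → y = x) ∧ WeilCoh.codim X.scheme x ≠ 0 :=
    ⟨((finite_maximal X ⊤).subset
      (show {x : X.scheme | (∀ y, y ⤳ x → y = x) ∧ WeilCoh.codim X.scheme x ≠ 0} ⊆ _ from
        fun x hx ↦ ⟨trivial, fun y _ h ↦ hx.1 y h⟩)).toFinset, fun _ ↦ Set.Finite.mem_toFinset _⟩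
  refine ⟨⟨((closuresUnion X S₁ : TopologicalSpace.Closeds X.scheme) : Set X.scheme)ᶜ,
    (closuresUnion X S₁).isClosed.isOpen_compl⟩, fun y hy hyS ↦ ?_, fun y hy ↦ ?_⟩
  · obtain ⟨x, hx, hyx⟩ := (mem_closuresUnion X S₁).mp hyS
    have hx' := (hS₁ x).mp hx
    obtain rfl := maximal_of_codim_zero (Nat.le_zero.mp hy) (specializes_iff_mem_closure.mpr hyx)
    exact hx'.2 (Nat.le_zero.mp hy)
  · obtain ⟨g, hgy, hmax⟩ := exists_generization_maximal X y
    refine (mem_closuresUnion X _).mpr ⟨g, mem_genPts.mpr ?_, specializes_iff_mem_closure.mp hgy⟩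
    by_contra hg
    exact hy ((mem_closuresUnion X S₁).mpr
      ⟨g, (hS₁ g).mpr ⟨hmax, hg⟩, specializes_iff_mem_closure.mp hgy⟩)

variable [IsReduced X.scheme]

theorem isIso_famZι {S : Finset X.scheme} {U : X.scheme.Opens}
    (h : ∀ y ∈ U, y ∈ closuresUnion X S) : IsIso (famZι X S U) := by
  have : IsReduced (X.res U).scheme := isReduced_of_isOpenImmersion U.ι
  have : Surjective (famZι X S U) := ⟨fun p ↦ by
    obtain ⟨q, hq⟩ := (range_closedSubι X (closuresUnion X S)).ge (h (U.ι p) p.2)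
    exact ⟨⟨q, show closedSubι X _ q ∈ U from hq ▸ p.2⟩, U.ι.isOpenEmbedding.injective
      ((apply_of_comp_eq (morphismRestrict_ι _ U) _).trans hq)⟩⟩
  exact isIso_of_isClosedImmersion_of_surjective _

theorem mem_fjGp_zero (hi : i' = i + 2 * ((0 : ℕ) : ℤ)) (hn : n' = n + ((0 : ℕ) : ℤ))
    (N : Submodule R (T.fjGp X 0 M i' n'))
    (hN : ∀ (x : X.cdPt 0) (U : Idx X (ContainsFj X 0))
      (w : T.gp ((X.ptSub x.1).res (ptOpen X x.1 U.1)) M i n),
      (cι T M i' n' U).hom ((pushPt T X x.1 U.1 M i n i' n' (hi_cdPt x hi U.2.1)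
        (hn_cdPt x hn U.2.1)).hom w) ∈ N)
    (α : T.fjGp X 0 M i' n') : α ∈ N := by
  obtain ⟨U, a, rfl⟩ := exists_rep T α
  rcases isEmpty_or_nonempty X.scheme with hX | hX
  · have : IsEmpty (X.res U.1).scheme := ⟨fun p ↦ hX.elim (U.1.ι p)⟩
    rw [eq_zero_of_isEmpty T a, map_zero]
    exact N.zero_mem
  obtain ⟨U₁, hU₁, hcov⟩ := exists_open_le_closures X
  have hS : ∀ x ∈ genPts X, WeilCoh.codim X.scheme x = 0 := fun x hx ↦ mem_genPts.mp hx
  obtain ⟨U', hle, hU', hsep⟩ := exists_separated X (genPts X) hS (U.1 ⊓ U₁)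
    fun y hy ↦ ⟨U.2.1 y hy, hU₁ y hy⟩
  have := isIso_famZι (S := genPts X) (fun y hy ↦ hcov y (hle hy).2)
  have hleU : mkFjIdx X U' hU' ≤ U := fun y hy ↦ (hle hy).1
  rw [← pull_cι T hleU a]
  obtain ⟨z, hz⟩ := (push_bijective_of_isIso T (famZι X (genPts X) U')
    (hi_famZ genPts_nonempty hi hS hU') (hn_famZ genPts_nonempty hn hS hU')).2
    ((T.pull (resIdx hleU) M i' n').hom a)
  rw [eq_sum_memberPush T hS hU' hsep z, push_sum_memberPush T hS hU' hsep hi hn genPts_nonempty _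
    (fun t ↦ hi_cdPt ⟨t.1, hS t.1 t.2⟩ hi hU') (fun t ↦ hn_cdPt ⟨t.1, hS t.1 t.2⟩ hn hU')] at hz
  rw [← hz, map_sum]
  exact N.sum_mem fun t _ ↦ hN ⟨t.1, hS t.1 t.2⟩ (mkFjIdx X U' hU') _

theorem tot_zero_bijective (P : T.PushData X 0) (hi : i' = i + 2 * ((0 : ℕ) : ℤ))
    (hn : n' = n + ((0 : ℕ) : ℤ)) : Function.Bijective (P.tot M i n i' n' hi hn).hom := by
  classical
  constructor
  · rw [injective_iff_map_eq_zero]
    intro ξ hξ
    rcases isEmpty_or_nonempty X.scheme with hX | hX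
    · exact DFinsupp.ext fun x ↦ (hX.false x.1).elim
    have hS : ∀ x ∈ genPts X, WeilCoh.codim X.scheme x = 0 := fun x hx ↦ mem_genPts.mp hx
    have h0 : ∀ x : X.cdPt 0, x.1 ∉ genPts X → ξ x = 0 :=
      fun x hx ↦ absurd (mem_genPts.mpr x.2) hx
    obtain ⟨U₁, hU₁, hcov⟩ := exists_open_le_closures X
    obtain ⟨U, hle, hU, hsep, w, hw⟩ :=
      exists_common_rep (genPts X) hS U₁ hU₁ (fun t ↦ ξ ⟨t.1, hS t.1 t.2⟩)
    let c : T.gp (X.res U) M i' n' := ∑ t : {x // x ∈ genPts X},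
      (pushPt T X t.1 U M i n i' n' (hi_cdPt ⟨t.1, hS t.1 t.2⟩ hi hU)
        (hn_cdPt ⟨t.1, hS t.1 t.2⟩ hn hU)).hom (w t)
    have hc : (cι T M i' n' (mkFjIdx X U hU)).hom c = 0 := by
      rw [eq_sum_lof _ hS ξ h0, map_sum] at hξ
      rw [← hξ, map_sum]
      refine Finset.sum_congr rfl fun t _ ↦ ?_
      rw [PreTheory.PushData.tot_lof, ← hw t]
      exact (pushCpt_eq P ⟨t.1, hS t.1 t.2⟩ hi hn (mkFjIdx X U hU) (hU t.1 (hS t.1 t.2).le)
        _ _ (w t)).symm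
    obtain ⟨W, hW, hWc⟩ := (cι_eq_zero_iff T).mp hc
    have hWle : W.1 ≤ U := hW
    have hWsep := separated_mono hWle hsep
    have hxW : ∀ t : {x // x ∈ genPts X}, t.1 ∈ W.1 := fun t ↦ W.2.1 t.1 (hS t.1 t.2).le
    let w' : ∀ t : {x // x ∈ genPts X}, T.gp ((X.ptSub t.1).res (ptOpen X t.1 W.1)) M i n :=
      fun t ↦ (T.pull (resPt X hWle (hxW t)) M i n).hom (w t)
    let z := ∑ t : {x // x ∈ genPts X}, (memberPush T hS W.2.1 hWsep t M i n).hom (w' t)
    have := isIso_famZι (S := genPts X) (fun y hy ↦ hcov y (hle (hWle hy)))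
    have hz : z = 0 := (push_bijective_of_isIso T (famZι X (genPts X) W.1)
      (hi_famZ genPts_nonempty hi hS W.2.1) (hn_famZ genPts_nonempty hn hS W.2.1)).1 (by
        rw [push_sum_memberPush T hS W.2.1 hWsep hi hn genPts_nonempty w'
          (fun t ↦ hi_cdPt ⟨t.1, hS t.1 t.2⟩ hi W.2.1) (fun t ↦ hn_cdPt ⟨t.1, hS t.1 t.2⟩ hn W.2.1),
          map_zero, ← hWc, map_sum]
        exact Finset.sum_congr rfl fun t _ ↦ (pushPt_pull T X _ _ _ _ _ _ _ (w t)).symm)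
    refine DFinsupp.ext fun x ↦ ?_
    have hxS : x.1 ∈ genPts X := mem_genPts.mpr x.2
    have h1 := pull_sum_memberPush T hS W.2.1 hWsep w' ⟨x.1, hxS⟩
    change (T.pull (member hS W.2.1 hWsep ⟨x.1, hxS⟩) M i n).hom z = _ at h1
    rw [hz, map_zero] at h1
    rw [← (hw ⟨x.1, hxS⟩ : _ = ξ x), ← pull_resPt_cι T X hWle (hxW ⟨x.1, hxS⟩) (w ⟨x.1, hxS⟩)]
    exact (congrArg _ h1.symm).trans (map_zero _)
  · intro α
    refine mem_fjGp_zero hi hn (LinearMap.range (P.tot M i n i' n' hi hn).hom) (fun x U w ↦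
      ⟨DirectSum.lof R _ (fun y : X.cdPt 0 => T.ptGp X y.1 M i n) x
        ((cι T M i n (ptIdxOf X (U.2.1 x.1 x.2.le))).hom w), ?_⟩) α
    rw [PreTheory.PushData.tot_lof]
    exact pushCpt_eq P x hi hn U (U.2.1 x.1 x.2.le) _ _ w

theorem fjGp_isZero (c : ℕ)
    (hc : ∀ (y : X.scheme) (i n : ℤ), (WeilCoh.pdim X.scheme y : ℤ) + c < i → IsZero (T.ptGp X y M i n))
    (j : ℕ) : ∀ (i n : ℤ), (WeilCoh.dim X.scheme : ℤ) + j + c < i →
      ∀ α : T.fjGp X j M i n, α = 0 := by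
  induction j with
  | zero =>
    intro i n hi α
    refine (Submodule.mem_bot R).mp (mem_fjGp_zero (i := i) (n := n) (i' := i) (n' := n)
      (by simp) (by simp) ⊥ (fun x U w ↦ ?_) α)
    rw [Submodule.mem_bot]
    obtain ⟨U₂, hle, hxU₂, hFj, -, hw⟩ := exists_piece_eq_zero T X (k := 0) (Nat.zero_le _)
      (U.2.1 x.1 x.2.le) w (eq_zero_of_isZero (hc x.1 i n (by
        have := codim_add_pdim X x.1
        have := x.2
        omega)) _)
    rw [cι_pushPt T X (U := mkFjIdx X U₂ (hFj U.2.1)) (U' := U) hle hxU₂ w _ _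
      (hi_cdPt x (by simp) (hFj U.2.1)) (hn_cdPt x (by simp) (hFj U.2.1))]
    erw [hw]
    rw [map_zero, map_zero]
  | succ j ih =>
    intro i n hi α
    refine fjRes_injective_of_isZero T X (fun x hx ↦ hc x _ _ ?_) ?_
    · have := codim_add_pdim X x
      omega
    · rw [map_zero]
      exact ih i n (by omega) _

end LevelZero

end Groth.Agent.BMCoh

end
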