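import Groth.Agent.BMCoh.Family
import Groth.Agent.BMCoh.Data

/-!
# Push-forward and residue through a family of disjoint pieces
-/

universe u

open CategoryTheory AlgebraicGeometry Opposite CategoryTheory.Limits TopologicalSpace

noncomputable section

namespace Groth.Agent.BMCoh

open _root_.BMCoh

set_option linter.unusedSectionVars false

variable {V : ObjectProperty Scheme.{u}} [hV : IsConstructible V] {R : Type u} [CommRing R]
  {A : Coefs R} (T : PreTheory V R A) {M : A.Cat} {i n i' n' : ℤ} (X : Obj V) {j k : ℕ}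

/-- The closures of the points of `S` meet pairwise outside `U` only. -/
def Separated (S : Finset X.scheme) (U : X.scheme.Opens) : Prop :=
  ∀ x ∈ S, ∀ y ∈ S, x ≠ y → ∀ z ∈ U, z ∈ closure ({x} : Set X.scheme) →
    z ∉ closure ({y} : Set X.scheme)

theorem codim_lt_of_mem_two {x y z : X.scheme} (hxy : x ≠ y)
    (h : WeilCoh.codim X.scheme x = WeilCoh.codim X.scheme y)
    (hx : z ∈ closure ({x} : Set X.scheme)) (hy : z ∈ closure ({y} : Set X.scheme)) :
    WeilCoh.codim X.scheme x < WeilCoh.codim X.scheme z := by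
  refine codim_lt_of_specializes X (specializes_iff_mem_closure.mpr hx) fun e ↦ ?_
  subst e
  have := codim_lt_of_specializes X (specializes_iff_mem_closure.mpr hy) hxy
  omega

theorem exists_separated (S : Finset X.scheme) (hS : ∀ x ∈ S, WeilCoh.codim X.scheme x = k)
    (U₀ : X.scheme.Opens) (hU₀ : ContainsFj X k U₀) :
    ∃ U : X.scheme.Opens, U ≤ U₀ ∧ ContainsFj X k U ∧ Separated X S U := by
  classical
  let B : Set X.scheme := ⋃ p ∈ S.offDiag,
    closure ({p.1} : Set X.scheme) ∩ closure ({p.2} : Set X.scheme)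
  have hB : IsClosed B := S.offDiag.finite_toSet.isClosed_biUnion fun _ _ ↦
    isClosed_closure.inter isClosed_closure
  refine ⟨U₀ ⊓ ⟨Bᶜ, hB.isOpen_compl⟩, inf_le_left, fun y hy ↦ ⟨hU₀ y hy, fun h ↦ ?_⟩,
    fun x hx y hy hne z hz hzx hzy ↦ hz.2
      (Set.mem_iUnion₂.mpr ⟨(x, y), Finset.mem_offDiag.mpr ⟨hx, hy, hne⟩, hzx, hzy⟩)⟩
  obtain ⟨⟨a, b⟩, hp, ha, hb⟩ := Set.mem_iUnion₂.mp h
  obtain ⟨ha', hb', hne⟩ : a ∈ S ∧ b ∈ S ∧ a ≠ b := Finset.mem_offDiag.mp hp
  simp only at ha hb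
  have := codim_lt_of_mem_two X hne ((hS a ha').trans (hS b hb').symm) ha hb
  have := hS a ha'
  omega

/-- Around the points `S` of codimension `j + 1` missed by `U`: an open whose difference with `U`
consists of the pairwise disjoint traces of their closures. -/
theorem exists_separated_extension (U : Idx X (ContainsFj X j)) (S : Finset X.scheme)
    (hS : ∀ x, x ∈ S ↔ x ∉ U.1 ∧ WeilCoh.codim X.scheme x = j + 1) :
    ∃ U' : X.scheme.Opens, U.1 ≤ U' ∧ ContainsFj X (j + 1) U' ∧ Separated X S U' ∧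
      ∀ y ∈ U', y ∈ U.1 ↔ y ∉ closuresUnion X S := by
  classical
  have hK : ∀ x ∈ S, ∃ K : TopologicalSpace.Closeds X.scheme,
      Disjoint (U.1 : Set X.scheme) K ∧ x ∉ K ∧
      (∀ z, z ∉ U.1 → z ∈ closure ({x} : Set X.scheme) ∨ z ∈ K) ∧
      closure ({x} : Set X.scheme) ∩ U.1 = ∅ ∧
      ∀ z, z ∈ closure ({x} : Set X.scheme) → z ∈ K → j + 1 < WeilCoh.codim X.scheme z :=
    fun x hx ↦ exists_piece X U.2.1 ((hS x).mp hx).2 ((hS x).mp hx).1
  choose K hUK hxK hcov hCU hcd using hK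
  let rest : Set X.scheme := (U.1 : Set X.scheme)ᶜ ∩ ⋂ x : {x // x ∈ S}, (K x.1 x.2 : Set X.scheme)
  let B : Set X.scheme := rest ∪ ⋃ x : {x // x ∈ S}, closure ({x.1} : Set X.scheme) ∩ K x.1 x.2
  have hB : IsClosed B :=
    (U.1.2.isClosed_compl.inter (isClosed_iInter fun x : {x // x ∈ S} ↦ (K x.1 x.2).isClosed)).union
      (isClosed_iUnion_of_finite fun x : {x // x ∈ S} ↦ isClosed_closure.inter (K x.1 x.2).isClosed)
  have hBU : ∀ y ∈ U.1, y ∉ B := by
    rintro y hy (h | h)
    · exact h.1 hy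
    · obtain ⟨x, hx⟩ := Set.mem_iUnion.mp h
      exact Set.disjoint_left.mp (hUK x.1 x.2) hy hx.2
  refine ⟨⟨Bᶜ, hB.isOpen_compl⟩, hBU, ?_, ?_, ?_⟩
  · intro y hy
    rintro (h | h)
    · have hyS : y ∈ S := (hS y).mpr ⟨h.1, by
        by_contra hne
        exact h.1 (U.2.1 y (by omega))⟩
      exact hxK y hyS (Set.mem_iInter.mp h.2 ⟨y, hyS⟩)
    · obtain ⟨x, hx⟩ := Set.mem_iUnion.mp h
      have := hcd x.1 x.2 y hx.1 hx.2
      omega
  · intro x hx y hy hne z hz hzx hzy
    refine hz (Or.inr (Set.mem_iUnion.mpr ⟨⟨x, hx⟩, hzx, ?_⟩))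
    have hyK : y ∈ K x hx := (hcov x hx y ((hS y).mp hy).1).resolve_left fun h ↦ by
      have := codim_lt_of_specializes X (specializes_iff_mem_closure.mpr h) hne.symm
      have := ((hS x).mp hx).2
      have := ((hS y).mp hy).2
      omega
    exact closure_minimal (Set.singleton_subset_iff.mpr hyK) (K x hx).isClosed hzy
  · intro y hy
    rw [mem_closuresUnion]
    constructor
    · rintro h ⟨x, hx, hyx⟩
      exact Set.notMem_empty y (hCU x hx ▸ (⟨hyx, h⟩ : y ∈ closure ({x} : Set X.scheme) ∩ U.1))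
    · intro h
      by_contra hyU
      refine hy (Or.inl ⟨hyU, Set.mem_iInter.mpr fun x ↦ ?_⟩)
      exact (hcov x.1 x.2 y hyU).resolve_left fun h' ↦ h ⟨x.1, x.2, h'⟩

variable {X} {S : Finset X.scheme} (hS : ∀ x ∈ S, WeilCoh.codim X.scheme x = k) {U : X.scheme.Opens}
  (hU : ContainsFj X k U) (hsep : Separated X S U)

/-- The inclusion of one piece into the union. -/
def member (x : {x // x ∈ S}) : (X.ptSub x.1).res (ptOpen X x.1 U) ⟶ famZ X S U :=
  (exists_member hS hU hsep x.2).choose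

theorem member_comp (x : {x // x ∈ S}) :
    (member hS hU hsep x).hom ≫ famZι X S U = X.ptSubι x.1 ∣_ U :=
  (exists_member hS hU hsep x.2).choose_spec.1

theorem mem_range_member (x : {x // x ∈ S}) (p : (famZ X S U).scheme) :
    p ∈ Set.range (member hS hU hsep x).hom ↔
      U.ι (famZι X S U p) ∈ closure ({x.1} : Set X.scheme) :=
  (exists_member hS hU hsep x.2).choose_spec.2 p

theorem member_disjoint : Pairwise fun s t : {x // x ∈ S} ↦
    Disjoint (Set.range (member hS hU hsep s).hom) (Set.range (member hS hU hsep t).hom) := by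
  intro s t hst
  rw [Set.disjoint_left]
  intro p hs ht
  exact hsep s.1 s.2 t.1 t.2 (fun e ↦ hst (Subtype.ext e)) _ (famZι X S U p).2
    ((mem_range_member hS hU hsep s p).mp hs) ((mem_range_member hS hU hsep t p).mp ht)

theorem member_cover : ⋃ t, Set.range (member hS hU hsep t).hom = Set.univ := by
  refine Set.eq_univ_of_forall fun p ↦ ?_
  have hmem : U.ι (famZι X S U p) ∈ closuresUnion X S := by
    rw [← SetLike.mem_coe, ← range_closedSubι]
    exact ⟨_, (apply_of_comp_eq (morphismRestrict_ι (closedSubι X (closuresUnion X S)) U) p).symm⟩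
  obtain ⟨x, hx, h⟩ := (mem_closuresUnion X S).mp hmem
  exact Set.mem_iUnion.mpr ⟨⟨x, hx⟩, (mem_range_member hS hU hsep ⟨x, hx⟩ p).mpr h⟩

theorem isClosedImmersion_famMember (x : {x // x ∈ S}) :
    IsClosedImmersion (member hS hU hsep x).hom :=
  isClosedImmersion_member _ _ (member_disjoint hS hU hsep) (member_cover hS hU hsep) x

/-- Extension by zero from one piece to the union. -/
def memberPush (x : {x // x ∈ S}) (M : A.Cat) (i n : ℤ) :
    T.gp ((X.ptSub x.1).res (ptOpen X x.1 U)) M i n ⟶ T.gp (famZ X S U) M i n :=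
  haveI := isClosedImmersion_famMember hS hU hsep x
  T.push (member hS hU hsep x).hom M i n i n
    (by rw [relCodim_eq_zero (member hS hU hsep x)]; ring)
    (by rw [relCodim_eq_zero (member hS hU hsep x)]; ring)

theorem pull_memberPush (s t : {x // x ∈ S})
    (a : T.gp ((X.ptSub t.1).res (ptOpen X t.1 U)) M i n) (h : s = t) :
    (T.pull (member hS hU hsep s) M i n).hom ((memberPush T hS hU hsep t M i n).hom a) = h ▸ a := by
  exact pull_push_member T _ _ (member_disjoint hS hU hsep) (member_cover hS hU hsep) s t a _ _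
    (h ▸ a) (fun _ ↦ rfl) (fun h' ↦ absurd h h')

theorem pull_memberPush_of_ne (s t : {x // x ∈ S})
    (a : T.gp ((X.ptSub t.1).res (ptOpen X t.1 U)) M i n) (h : s ≠ t) :
    (T.pull (member hS hU hsep s) M i n).hom ((memberPush T hS hU hsep t M i n).hom a) = 0 := by
  exact pull_push_member T _ _ (member_disjoint hS hU hsep) (member_cover hS hU hsep) s t a _ _
    0 (fun h' ↦ absurd h' h) (fun _ ↦ rfl)

theorem pull_sum_memberPush
    (a : ∀ x : {x // x ∈ S}, T.gp ((X.ptSub x.1).res (ptOpen X x.1 U)) M i n) (s : {x // x ∈ S}) :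
    (T.pull (member hS hU hsep s) M i n).hom
      (∑ t, (memberPush T hS hU hsep t M i n).hom (a t)) = a s := by
  rw [map_sum, Finset.sum_eq_single s]
  · exact pull_memberPush T hS hU hsep s s (a s) rfl
  · exact fun t _ h ↦ pull_memberPush_of_ne T hS hU hsep s t (a t) (Ne.symm h)
  · exact fun h ↦ absurd (Finset.mem_univ s) h

theorem eq_sum_memberPush (z : T.gp (famZ X S U) M i n) :
    z = ∑ t, (memberPush T hS hU hsep t M i n).hom
      ((T.pull (member hS hU hsep t) M i n).hom z) := by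
  refine sub_eq_zero.mp (eq_zero_of_pull_members T _ _ (member_disjoint hS hU hsep)
    (member_cover hS hU hsep) _ fun s ↦ ?_)
  rw [map_sub, pull_sum_memberPush T hS hU hsep _ s, sub_self]

theorem hi_famZ (hne : S.Nonempty) (hi : i = i' + 2 * (k : ℤ)) (hS : ∀ x ∈ S, WeilCoh.codim X.scheme x = k)
    (hU : ContainsFj X k U) :
    i = i' + 2 * relCodim (famZ X S U).scheme (X.res U).scheme := by
  obtain ⟨x, hx⟩ := hne
  have h := dim_famZ hS hU hx
  have h' : WeilCoh.dim (X.res U).scheme = WeilCoh.dim X.scheme := dim_eq_of_containsFj X hU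
  rw [relCodim, h', hi, ← h]
  push_cast
  ring

theorem hn_famZ (hne : S.Nonempty) (hn : n = n' + (k : ℤ)) (hS : ∀ x ∈ S, WeilCoh.codim X.scheme x = k)
    (hU : ContainsFj X k U) :
    n = n' + relCodim (famZ X S U).scheme (X.res U).scheme := by
  obtain ⟨x, hx⟩ := hne
  have h := dim_famZ hS hU hx
  have h' : WeilCoh.dim (X.res U).scheme = WeilCoh.dim X.scheme := dim_eq_of_containsFj X hU
  rw [relCodim, h', hn, ← h]
  push_cast
  ring

theorem push_memberPush (x : {x // x ∈ S})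
    (hi : i = i' + 2 * relCodim (famZ X S U).scheme (X.res U).scheme)
    (hn : n = n' + relCodim (famZ X S U).scheme (X.res U).scheme)
    (hi' : i = i' + 2 * relCodim ((X.ptSub x.1).res (ptOpen X x.1 U)).scheme (X.res U).scheme)
    (hn' : n = n' + relCodim ((X.ptSub x.1).res (ptOpen X x.1 U)).scheme (X.res U).scheme)
    (a : T.gp ((X.ptSub x.1).res (ptOpen X x.1 U)) M i' n') :
    (T.push (famZι X S U) M i' n' i n hi hn).hom ((memberPush T hS hU hsep x M i' n').hom a) =
      (pushPt T X x.1 U M i' n' i n hi' hn').hom a := by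
  have := isClosedImmersion_famMember hS hU hsep x
  rw [memberPush, push_comp_apply T (member hS hU hsep x).hom (famZι X S U) _ _ hi hn hi' hn',
    push_congr T (member_comp hS hU hsep x)]

theorem push_sum_memberPush (hi : i = i' + 2 * (k : ℤ)) (hn : n = n' + (k : ℤ)) (hne : S.Nonempty)
    (a : ∀ x : {x // x ∈ S}, T.gp ((X.ptSub x.1).res (ptOpen X x.1 U)) M i' n')
    (hi' : ∀ x : {x // x ∈ S},
      i = i' + 2 * relCodim ((X.ptSub x.1).res (ptOpen X x.1 U)).scheme (X.res U).scheme)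
    (hn' : ∀ x : {x // x ∈ S},
      n = n' + relCodim ((X.ptSub x.1).res (ptOpen X x.1 U)).scheme (X.res U).scheme) :
    (T.push (famZι X S U) M i' n' i n (hi_famZ hne hi hS hU) (hn_famZ hne hn hS hU)).hom
        (∑ t : {x // x ∈ S}, (memberPush T hS hU hsep t M i' n').hom (a t)) =
      ∑ t : {x // x ∈ S}, (pushPt T X t.1 U M i' n' i n (hi' t) (hn' t)).hom (a t) := by
  rw [map_sum]
  refine Finset.sum_congr rfl fun t _ ↦ ?_
  exact push_memberPush T hS hU hsep t (hi_famZ hne hi hS hU) (hn_famZ hne hn hS hU) (hi' t) (hn' t) (a t)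

/-- The decomposition of `U` into `U₀` and the union of the pieces. -/
abbrev famDecomp (U₀ : X.scheme.Opens) (hle : U₀ ≤ U)
    (hd : WeilCoh.dim (U₀ : Scheme.{u}) = WeilCoh.dim (U : Scheme.{u}))
    (h : ∀ y ∈ U, y ∈ U₀ ↔ y ∉ closuresUnion X S) : Decomp (X.res U) :=
  mkDecomp X (closedSub X (closuresUnion X S)) (closedSubι X (closuresUnion X S)) U₀ U hle hd
    (fun y hy ↦ by rw [range_closedSubι]; exact h y hy)

theorem resCpt_eq_member {U : X.scheme.Opens} {hU : ContainsFj X (j + 1) U}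
    {hsep : Separated X S U} {hS : ∀ x ∈ S, WeilCoh.codim X.scheme x = j + 1} (Q : T.ResData X j)
    (x : X.cdPt (j + 1)) (hx : x.1 ∈ S) (hi : i' = i + 1 - 2 * ((j : ℤ) + 1))
    (hn : n' = n - ((j : ℤ) + 1)) (U₀ : Idx X (ContainsFj X j)) (hle : U₀.1 ≤ U)
    (hd : WeilCoh.dim (U₀.1 : Scheme.{u}) = WeilCoh.dim (U : Scheme.{u}))
    (h : ∀ y ∈ U, y ∈ U₀.1 ↔ y ∉ closuresUnion X S)
    (hiD : i' = i + 1 - 2 * (famDecomp U₀.1 hle hd h).codim)
    (hnD : n' = n - (famDecomp U₀.1 hle hd h).codim) (a : T.gp (X.res U₀.1) M i n) :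
    (Q.cpt x M i n i' n' hi hn).hom ((cι T M i n U₀).hom a) =
      (cι T M i' n' (ptIdxOf X (hU x.1 x.2.le))).hom ((T.pull (member hS hU hsep ⟨x.1, hx⟩) M i' n').hom
        ((T.res (famDecomp U₀.1 hle hd h) M i n i' n' hiD hnD).hom a)) := by
  have h' := congrArg (fun φ ↦ φ.hom a)
    (Q.cpt_spec x M i n i' n' hi hn (X.resι U (hd.symm.trans U₀.2.2))
      (famDecomp U₀.1 hle hd h) (ptIdxOf X (hU x.1 x.2.le)) (member hS hU hsep ⟨x.1, hx⟩)
      (by
        change (member hS hU hsep ⟨x.1, hx⟩).hom ≫ famZι X S U ≫ U.ι = _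
        rw [← Category.assoc, member_comp hS hU hsep ⟨x.1, hx⟩]
        exact morphismRestrict_ι _ _)
      U₀ (𝟙 (X.res U₀.1)) ((Category.id_comp _).trans (Scheme.homOfLE_ι _ hle)) hiD hnD)
  exact (congrArg (fun b ↦ (Q.cpt x M i n i' n' hi hn).hom ((cι T M i n U₀).hom b))
    (pull_id T (M := M) (i := i) (n := n) a).symm).trans h'

end Groth.Agent.BMCoh

end
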