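import Groth.Agent.BMCoh.Gysin

/-!
# One-point pieces: push-forward and residue for the closure of a point cut by an open
-/

universe u

open CategoryTheory AlgebraicGeometry Opposite CategoryTheory.Limits TopologicalSpace

noncomputable section

namespace Groth.Agent.BMCoh

open _root_.BMCoh

set_option linter.unusedSectionVars false

variable {V : ObjectProperty Scheme.{u}} [hV : IsConstructible V] {R : Type u} [CommRing R]
  {A : Coefs R} (T : PreTheory V R A) {M : A.Cat} {i n i' n' : ℤ} (X : Obj V)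

theorem ptOpen_eq_of_inter {x : X.scheme} {U U' : X.scheme.Opens}
    (h : ∀ z ∈ closure ({x} : Set X.scheme), z ∈ U ↔ z ∈ U') : ptOpen X x U = ptOpen X x U' := by
  ext p
  exact h _ (by rw [← range_ptSubι]; exact ⟨p, rfl⟩)

theorem mem_of_nonempty_open {x : X.scheme} {W : (X.ptSub x).scheme.Opens}
    (hW : (W : Set (X.ptSub x).scheme).Nonempty) {p : (X.ptSub x).scheme}
    (hp : X.ptSubι x p = x) : p ∈ W := by
  obtain ⟨q, hq⟩ := hW
  refine Specializes.mem_open ?_ W.2 hq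
  rw [← (X.ptSubι x).isEmbedding.isInducing.specializes_iff, hp, specializes_iff_mem_closure,
    ← range_ptSubι]
  exact ⟨q, rfl⟩

/-- An open of the closure of `x` inside `U₀` is cut out by an open of the ambient object that
still contains all points of small codimension. -/
theorem exists_open_piece {x : X.scheme} {k : ℕ} (hk : k ≤ WeilCoh.codim X.scheme x)
    {W : (X.ptSub x).scheme.Opens} (hW : (W : Set (X.ptSub x).scheme).Nonempty)
    {U₀ : X.scheme.Opens} (hWU : W ≤ ptOpen X x U₀) :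
    ∃ U : X.scheme.Opens, U ≤ U₀ ∧ ptOpen X x U = W ∧ x ∈ U ∧
      (ContainsFj X k U₀ → ContainsFj X k U) ∧
      ∀ z ∈ U₀, z ∉ closure ({x} : Set X.scheme) → z ∈ U := by
  let B : Set X.scheme := X.ptSubι x '' ((W : Set (X.ptSub x).scheme)ᶜ)
  have hB : IsClosed B := (X.ptSubι x).isClosedEmbedding.isClosedMap _ W.2.isClosed_compl
  obtain ⟨p, hp⟩ : x ∈ Set.range (X.ptSubι x) := by
    rw [range_ptSubι]; exact subset_closure rfl
  have hpW := mem_of_nonempty_open X hW hp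
  have hxB : x ∉ B := by
    rintro ⟨q, hq, e⟩
    exact hq ((X.ptSubι x).isEmbedding.injective (e.trans hp.symm) ▸ hpW)
  refine ⟨U₀ ⊓ ⟨Bᶜ, hB.isOpen_compl⟩, inf_le_left, ?_, ⟨?_, hxB⟩, fun h y hy ↦ ⟨h y hy, ?_⟩,
    fun z hz hzC ↦ ⟨hz, ?_⟩⟩
  · ext q
    constructor
    · rintro ⟨-, h2⟩
      by_contra hq
      exact h2 ⟨q, hq, rfl⟩
    · intro hq
      exact ⟨hWU hq, fun ⟨r, hr, e⟩ ↦ hr ((X.ptSubι x).isEmbedding.injective e ▸ hq)⟩
  · have := hWU hpW
    change X.ptSubι x p ∈ U₀ at this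
    rwa [hp] at this
  · intro hyB
    have hyC : y ∈ closure ({x} : Set X.scheme) := by
      rw [← range_ptSubι]; exact Set.image_subset_range _ _ hyB
    have hne : y ≠ x := fun h ↦ hxB (h ▸ hyB)
    have := codim_lt_of_specializes X (specializes_iff_mem_closure.mpr hyC) hne
    omega
  · intro hzB
    exact hzC (by rw [← range_ptSubι]; exact Set.image_subset_range _ _ hzB)

theorem relCodim_piece {x : X.scheme} {U : X.scheme.Opens} (hxU : x ∈ U)
    (hd : WeilCoh.dim (U : Scheme.{u}) = WeilCoh.dim X.scheme) :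
    relCodim ((X.ptSub x).res (ptOpen X x U)).scheme (X.res U).scheme =
      (WeilCoh.codim X.scheme x : ℤ) := by
  have h1 := dim_ptSub_res X (ptOpen X x U) (ptOpen_nonempty X hxU)
  have h2 := codim_add_pdim X x
  simp only [relCodim, Obj.res_scheme]
  rw [hd]
  change (_ : ℤ) - (WeilCoh.dim (ptOpen X x U : Scheme.{u}) : ℤ) = _
  rw [h1]
  omega

/-- Push-forward from the piece of the closure of `x` in `U` into `U`. -/
abbrev pushPt (x : X.scheme) (U : X.scheme.Opens) (M : A.Cat) (i' n' i n : ℤ)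
    (hi : i = i' + 2 * relCodim ((X.ptSub x).res (ptOpen X x U)).scheme (X.res U).scheme)
    (hn : n = n' + relCodim ((X.ptSub x).res (ptOpen X x U)).scheme (X.res U).scheme) :
    T.gp ((X.ptSub x).res (ptOpen X x U)) M i' n' ⟶ T.gp (X.res U) M i n :=
  T.push (X.ptSubι x ∣_ U) M i' n' i n hi hn

/-- The decomposition of `U'` into `U` and the piece of the closure of `x`. -/
abbrev ptDecomp (x : X.scheme) (U U' : X.scheme.Opens) (hle : U ≤ U')
    (hd : WeilCoh.dim (U : Scheme.{u}) = WeilCoh.dim (U' : Scheme.{u}))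
    (h : ∀ y ∈ U', y ∈ U ↔ y ∉ closure ({x} : Set X.scheme)) : Decomp (X.res U') :=
  mkDecomp X (X.ptSub x) (X.ptSubι x) U U' hle hd (fun y hy ↦ by rw [range_ptSubι]; exact h y hy)

theorem codim_ptDecomp {x : X.scheme} {U U' : X.scheme.Opens} (hle : U ≤ U')
    (hd : WeilCoh.dim (U : Scheme.{u}) = WeilCoh.dim (U' : Scheme.{u}))
    (h : ∀ y ∈ U', y ∈ U ↔ y ∉ closure ({x} : Set X.scheme)) (hxU : x ∈ U')
    (hdU : WeilCoh.dim (U : Scheme.{u}) = WeilCoh.dim X.scheme) :
    (ptDecomp X x U U' hle hd h).codim = (WeilCoh.codim X.scheme x : ℤ) :=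
  relCodim_piece X hxU (hd ▸ hdU)

/-- Restriction of pieces along nested opens. -/
abbrev resPt {x : X.scheme} {U U' : X.scheme.Opens} (hle : U ≤ U') (hxU : x ∈ U) :
    (X.ptSub x).res (ptOpen X x U) ⟶ (X.ptSub x).res (ptOpen X x U') :=
  (X.ptSub x).resLE ((X.ptSubι x).preimage_mono hle)
    ((dim_ptSub_res X _ (ptOpen_nonempty X hxU)).trans
      (dim_ptSub_res X _ (ptOpen_nonempty X (hle hxU))).symm)

theorem resPt_bijective {x : X.scheme} {U U' : X.scheme.Opens} (hle : U ≤ U') (hxU : x ∈ U)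
    (h : ptOpen X x U = ptOpen X x U') :
    Function.Bijective (T.pull (resPt X hle hxU) M i n).hom :=
  pull_resLE_bijective T (X.ptSub x) _ h.ge _

theorem pushPt_pull {x : X.scheme} {U U' : X.scheme.Opens} (hle : U ≤ U') (hxU : x ∈ U)
    (hd : WeilCoh.dim (U : Scheme.{u}) = WeilCoh.dim (U' : Scheme.{u}))
    (hi : i = i' + 2 * relCodim ((X.ptSub x).res (ptOpen X x U')).scheme (X.res U').scheme)
    (hn : n = n' + relCodim ((X.ptSub x).res (ptOpen X x U')).scheme (X.res U').scheme)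
    (hi' : i = i' + 2 * relCodim ((X.ptSub x).res (ptOpen X x U)).scheme (X.res U).scheme)
    (hn' : n = n' + relCodim ((X.ptSub x).res (ptOpen X x U)).scheme (X.res U).scheme)
    (w : T.gp ((X.ptSub x).res (ptOpen X x U')) M i' n') :
    (T.pull (X.resLE hle hd) M i n).hom ((pushPt T X x U' M i' n' i n hi hn).hom w) =
      (pushPt T X x U M i' n' i n hi' hn').hom ((T.pull (resPt X hle hxU) M i' n').hom w) :=
  push_pull_apply T _ _ (X.resLE hle hd) (resPt X hle hxU) (isPullback_restrict (X.ptSubι x) hle)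
    hi hn hi' hn' w

theorem cι_pushPt {j : ℕ} {x : X.scheme} {U U' : Idx X (ContainsFj X j)} (hle : U ≤ U')
    (hxU : x ∈ U.1) (w : T.gp ((X.ptSub x).res (ptOpen X x U'.1)) M i' n')
    (hi : i = i' + 2 * relCodim ((X.ptSub x).res (ptOpen X x U'.1)).scheme (X.res U'.1).scheme)
    (hn : n = n' + relCodim ((X.ptSub x).res (ptOpen X x U'.1)).scheme (X.res U'.1).scheme)
    (hi' : i = i' + 2 * relCodim ((X.ptSub x).res (ptOpen X x U.1)).scheme (X.res U.1).scheme)
    (hn' : n = n' + relCodim ((X.ptSub x).res (ptOpen X x U.1)).scheme (X.res U.1).scheme) :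
    (cι T M i n U').hom ((pushPt T X x U'.1 M i' n' i n hi hn).hom w) =
      (cι T M i n U).hom ((pushPt T X x U.1 M i' n' i n hi' hn').hom
        ((T.pull (resPt X hle hxU) M i' n').hom w)) := by
  rw [← pushPt_pull T X hle hxU (U.2.2.trans U'.2.2.symm) hi hn hi' hn' w]
  exact (pull_cι T hle _).symm

theorem pull_resPt_cι {x : X.scheme} {U U' : X.scheme.Opens} (hle : U ≤ U') (hxU : x ∈ U)
    (w : T.gp ((X.ptSub x).res (ptOpen X x U')) M i n) :
    (cι T M i n (ptIdxOf X hxU)).hom ((T.pull (resPt X hle hxU) M i n).hom w) =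
      (cι T M i n (ptIdxOf X (hle hxU))).hom w :=
  pull_cι T (U := ptIdxOf X hxU) (U' := ptIdxOf X (hle hxU)) ((X.ptSubι x).preimage_mono hle) w

/-- A class of a piece that dies in the group of the point dies on a smaller piece. -/
theorem exists_piece_eq_zero {x : X.scheme} {k : ℕ} (hk : k ≤ WeilCoh.codim X.scheme x)
    {U' : X.scheme.Opens} (hxU : x ∈ U') (w : T.gp ((X.ptSub x).res (ptOpen X x U')) M i n)
    (h : (cι T M i n (ptIdxOf X hxU)).hom w = 0) :
    ∃ (U : X.scheme.Opens) (hle : U ≤ U') (hx : x ∈ U),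
      (ContainsFj X k U' → ContainsFj X k U) ∧
      (∀ z ∈ U', z ∉ closure ({x} : Set X.scheme) → z ∈ U) ∧
      (T.pull (resPt X hle hx) M i n).hom w = 0 := by
  obtain ⟨W, hW, e⟩ := (cι_eq_zero_iff T).mp h
  obtain ⟨U, hle, hUW, hx, h1, h2⟩ := exists_open_piece X hk W.2.1 hW
  refine ⟨U, hle, hx, h1, h2, ?_⟩
  have key : (T.pull (resPt X hle hx) M i n).hom w =
      (T.pull ((X.ptSub x).resLE hUW.le ((dim_ptSub_res X _ (ptOpen_nonempty X hx)).trans
        (dim_ptSub_res X W.1 W.2.1).symm)) M i n).hom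
        ((T.pull (resIdx hW) M i n).hom w) :=
    (pull_resLE_resLE T _ _ _ _ _ w).symm
  rw [key, e, map_zero]

/-- Every class of a point is represented on a piece cut out by a small open. -/
theorem exists_piece_rep {x : X.scheme} {k : ℕ} (hk : k ≤ WeilCoh.codim X.scheme x)
    {U₀ : X.scheme.Opens} (hxU : x ∈ U₀) (z : T.ptGp X x M i n) :
    ∃ (U : X.scheme.Opens) (_ : U ≤ U₀) (hx : x ∈ U),
      (ContainsFj X k U₀ → ContainsFj X k U) ∧
      (∀ y ∈ U₀, y ∉ closure ({x} : Set X.scheme) → y ∈ U) ∧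
      ∃ w, (cι T M i n (ptIdxOf X hx)).hom w = z := by
  obtain ⟨W, hW, a, rfl⟩ := exists_rep_le T (ptIdxOf X hxU) z
  obtain ⟨U, hle, hUW, hx, h1, h2⟩ := exists_open_piece X hk W.2.1 hW
  exact ⟨U, hle, hx, h1, h2, _, pull_cι T (U := ptIdxOf X hx) (U' := W) hUW.le a⟩

/-- Residues are natural for shrinking the piece. -/
theorem res_ptDecomp_pull {x : X.scheme} {U U₁ U₂ : X.scheme.Opens} (h₁ : U ≤ U₁) (h₂ : U₁ ≤ U₂)
    (hx : x ∈ U₁)
    (hd₁ : WeilCoh.dim (U : Scheme.{u}) = WeilCoh.dim (U₁ : Scheme.{u}))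
    (hd₂ : WeilCoh.dim (U : Scheme.{u}) = WeilCoh.dim (U₂ : Scheme.{u}))
    (e₁ : ∀ y ∈ U₁, y ∈ U ↔ y ∉ closure ({x} : Set X.scheme))
    (e₂ : ∀ y ∈ U₂, y ∈ U ↔ y ∉ closure ({x} : Set X.scheme))
    (hi : i' = i + 1 - 2 * (ptDecomp X x U U₂ (h₁.trans h₂) hd₂ e₂).codim)
    (hn : n' = n - (ptDecomp X x U U₂ (h₁.trans h₂) hd₂ e₂).codim)
    (hi' : i' = i + 1 - 2 * (ptDecomp X x U U₁ h₁ hd₁ e₁).codim)
    (hn' : n' = n - (ptDecomp X x U U₁ h₁ hd₁ e₁).codim)
    (a : T.gp (X.res U) M i n) :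
    (T.pull (resPt X h₂ hx) M i' n').hom
        ((T.res (ptDecomp X x U U₂ (h₁.trans h₂) hd₂ e₂) M i n i' n' hi hn).hom a) =
      (T.res (ptDecomp X x U U₁ h₁ hd₁ e₁) M i n i' n' hi' hn').hom a := by
  refine (res_pull_apply T (ptDecomp X x U U₂ (h₁.trans h₂) hd₂ e₂) (ptDecomp X x U U₁ h₁ hd₁ e₁)
    (X.resLE h₂ (hd₁.symm.trans hd₂)) (resPt X h₂ hx) (𝟙 (X.res U)) ?_ ?_ hi hn hi' hn' a).trans ?_
  · exact (isPullback_restrict (X.ptSubι x) h₂).w
  · exact (Category.id_comp _).trans (Scheme.homOfLE_homOfLE _ h₁ h₂).symm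
  · exact congrArg _ (pull_id T a)

end Groth.Agent.BMCoh

end
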