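import Groth.Agent.RedSepLib.Basic
import Groth.Agent.BMCoh.Piece

/-!
# Finite families of pieces: disjoint closures of points of one codimension
-/

universe u

open CategoryTheory AlgebraicGeometry Opposite CategoryTheory.Limits TopologicalSpace

noncomputable section

namespace Groth.Agent.BMCoh

open _root_.BMCoh

set_option linter.unusedSectionVars false

variable {V : ObjectProperty Scheme.{u}} [hV : IsConstructible V] {R : Type u} [CommRing R]
  {A : Coefs R} (T : PreTheory V R A) {M : A.Cat} {i n i' n' : ℤ}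

theorem dim_opens_eq_of_mem_range {Z W : Obj V} (e : W ⟶ Z) (O : Z.scheme.Opens)
    (h : Set.range e.hom ⊆ O) : WeilCoh.dim (O : Scheme.{u}) = WeilCoh.dim Z.scheme := by
  refine le_antisymm (natDim_le_of_isInducing O.ι.isEmbedding.isInducing (dim_lt_top Z)) ?_
  rw [← e.dim_eq]
  refine natDim_le_of_isInducing (f := IsOpenImmersion.lift O.ι e.hom (O.range_ι.symm ▸ h))
    ?_ (dim_lt_top (Z.res O))
  refine Topology.IsInducing.of_comp (Scheme.Hom.continuous _) O.ι.continuous ?_
  rw [← TopCat.coe_comp, ← Scheme.Hom.comp_base, IsOpenImmersion.lift_fac]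
  exact e.hom.isEmbedding.isInducing

theorem apply_of_comp_eq {X Y Z : Scheme.{u}} {f : X ⟶ Y} {g : Y ⟶ Z} {h : X ⟶ Z} (e : f ≫ g = h)
    (x : X) : g (f x) = h x := by
  subst e; rfl

theorem mem_range_homOfLE {X : Scheme.{u}} {U U' : X.Opens} (h : U ≤ U') (p : (U' : Scheme.{u})) :
    p ∈ Set.range (X.homOfLE h) ↔ U'.ι p ∈ U := by
  constructor
  · rintro ⟨q, rfl⟩
    rw [← Scheme.Hom.comp_apply, Scheme.homOfLE_ι]
    exact q.2
  · intro hq
    exact ⟨⟨U'.ι p, hq⟩, U'.ι.isOpenEmbedding.injective (apply_of_comp_eq (Scheme.homOfLE_ι _ h) _)⟩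

/-- The group of an empty object is zero. -/
theorem eq_zero_of_isEmpty {X : Obj V} [IsEmpty X.scheme] (z : T.gp X M i n) : z = 0 := by
  let D : Decomp X :=
    { Z := X, U := X, i := 𝟙 X.scheme, closedImm := inferInstance, j := 𝟙 X
      range_eq := Set.ext fun x ↦ isEmptyElim x }
  have hc : relCodim X.scheme X.scheme = 0 := sub_self _
  have h := (exact_push_pull' T D (i := i) (i' := i) (n := n) (n' := n) (M := M)
    (show i = i + 2 * relCodim X.scheme X.scheme by rw [hc]; ring)
    (show n = n + relCodim X.scheme X.scheme by rw [hc]; ring) z).mpr ⟨z, by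
      change (T.push (𝟙 X.scheme) M i n i n _ _).hom z = z
      rw [T.push_id]; rfl⟩
  have e : (T.pull (𝟙 X) M i n).hom z = 0 := h
  rwa [pull_id] at e

section Cover

variable {ι : Type*} {Z : Obj V} (W : ι → Obj V) (e : ∀ t, W t ⟶ Z)
  (hdisj : Pairwise fun s t ↦ Disjoint (Set.range (e s).hom) (Set.range (e t).hom))
  (hcov : ⋃ t, Set.range (e t).hom = Set.univ)

include hdisj hcov in
theorem isClosed_range_member (t : ι) : IsClosed (Set.range (e t).hom) := by
  rw [← compl_compl (Set.range (e t).hom)]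
  refine IsOpen.isClosed_compl ?_
  have : (Set.range (e t).hom)ᶜ = ⋃ s ∈ {s | s ≠ t}, Set.range (e s).hom := by
    ext z
    constructor
    · intro hz
      obtain ⟨s, hs⟩ := Set.mem_iUnion.mp (hcov.ge (Set.mem_univ z))
      exact Set.mem_iUnion₂.mpr ⟨s, fun h ↦ hz (h ▸ hs), hs⟩
    · intro hz ht
      obtain ⟨s, hs, hzs⟩ := Set.mem_iUnion₂.mp hz
      exact Set.disjoint_left.mp (hdisj hs) hzs ht
  rw [this]
  exact isOpen_biUnion fun s _ ↦ (e s).hom.isOpenEmbedding.isOpen_range

include hdisj hcov in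
theorem isClosedImmersion_member (t : ι) : IsClosedImmersion (e t).hom :=
  IsClosedImmersion.of_isPreimmersion _ (isClosed_range_member W e hdisj hcov t)

include hdisj hcov in
theorem eq_zero_of_pull_members [Finite ι] (z : T.gp Z M i n)
    (hz : ∀ t, (T.pull (e t) M i n).hom z = 0) : z = 0 := by
  classical
  cases nonempty_fintype ι
  rcases isEmpty_or_nonempty ι with hι | hι
  · have : IsEmpty Z.scheme := ⟨fun p ↦ by
      have := hcov.ge (Set.mem_univ p)
      simp at this⟩
    exact eq_zero_of_isEmpty T z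
  obtain ⟨O, hO⟩ : ∃ O : Finset ι → Z.scheme.Opens,
      ∀ S, (O S : Set Z.scheme) = ⋃ t ∈ S, Set.range (e t).hom :=
    ⟨fun S ↦ ⟨_, isOpen_biUnion fun t _ ↦ (e t).hom.isOpenEmbedding.isOpen_range⟩, fun _ ↦ rfl⟩
  have hmem : ∀ S p, p ∈ O S ↔ ∃ t ∈ S, p ∈ Set.range (e t).hom := fun S p ↦ by
    rw [← SetLike.mem_coe, hO]; exact Set.mem_iUnion₂.trans ⟨fun ⟨t, ht, h⟩ ↦ ⟨t, ht, h⟩,
      fun ⟨t, ht, h⟩ ↦ ⟨t, ht, h⟩⟩
  have hdim : ∀ S : Finset ι, S.Nonempty → WeilCoh.dim (O S : Scheme.{u}) = WeilCoh.dim Z.scheme :=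
    fun S ⟨t, ht⟩ ↦ dim_opens_eq_of_mem_range (e t) _ fun p hp ↦ (hmem S p).mpr ⟨t, ht, hp⟩
  have hsingle : ∀ (t : ι) (hd : WeilCoh.dim (O {t} : Scheme.{u}) = WeilCoh.dim Z.scheme),
      (T.pull (Z.resι (O {t}) hd) M i n).hom z = 0 := by
    intro t hd
    have hr : Set.range (O {t}).ι ⊆ Set.range (e t).hom := by
      rw [Scheme.Opens.range_ι]
      intro p hp
      obtain ⟨s, hs, h⟩ := (hmem _ p).mp hp
      rwa [Finset.mem_singleton.mp hs] at h
    let g : Z.res (O {t}) ⟶ W t :=
      ⟨IsOpenImmersion.lift (e t).hom (O {t}).ι hr, by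
        have : IsOpenImmersion (IsOpenImmersion.lift (e t).hom (O {t}).ι hr ≫ (e t).hom) := by
          rw [IsOpenImmersion.lift_fac]; infer_instance
        exact IsOpenImmersion.of_comp _ (e t).hom, hd.trans (e t).dim_eq.symm⟩
    rw [pull_congr T (g := g ≫ e t) (IsOpenImmersion.lift_fac _ _ hr).symm, ← pull_pull, hz, map_zero]
  suffices H : ∀ (S : Finset ι) (hS : S.Nonempty),
      (T.pull (Z.resι (O S) (hdim S hS)) M i n).hom z = 0 by
    have := H Finset.univ Finset.univ_nonempty
    have htop : O Finset.univ = ⊤ := eq_top_iff.mpr fun p _ ↦ by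
      obtain ⟨t, ht⟩ := Set.mem_iUnion.mp (hcov.ge (Set.mem_univ p))
      exact (hmem _ p).mpr ⟨t, Finset.mem_univ _, ht⟩
    have hle : (⊤ : Z.scheme.Opens) ≤ O Finset.univ := htop.ge
    have hiso : IsIso Z.resTop.hom := (inferInstance : IsIso Z.scheme.topIso.hom)
    have h2 := congrArg (T.pull (Z.resLE hle ((dim_top Z.scheme).trans
      (hdim _ Finset.univ_nonempty).symm)) M i n).hom this
    rw [pull_pull, map_zero, pull_congr T (g := Z.resTop) (Scheme.homOfLE_ι _ hle)] at h2
    have hinv : Z.resTop.hom ≫ inv Z.resTop.hom = 𝟙 _ := IsIso.hom_inv_id _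
    let r : Z ⟶ Z.res ⊤ := ⟨inv Z.resTop.hom, inferInstance, (dim_top Z.scheme).symm⟩
    have hr : r ≫ Z.resTop = 𝟙 Z := Hom.ext (IsIso.inv_hom_id _)
    have h3 := congrArg (T.pull r M i n).hom h2
    rwa [pull_pull, hr, pull_id, map_zero] at h3
  intro S hS
  induction hS using Finset.Nonempty.cons_induction with
  | singleton t => exact hsingle t _
  | cons t S ht hS ih =>
    have hle₁ : O S ≤ O (Finset.cons t S ht) := fun p hp ↦ by
      obtain ⟨s, hs, hp⟩ := (hmem _ p).mp hp
      exact (hmem _ p).mpr ⟨s, Finset.mem_cons.mpr (Or.inr hs), hp⟩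
    have hle₂ : O {t} ≤ O (Finset.cons t S ht) := fun p hp ↦ by
      obtain ⟨s, hs, hp⟩ := (hmem _ p).mp hp
      exact (hmem _ p).mpr ⟨s, Finset.mem_cons.mpr (Or.inl (Finset.mem_singleton.mp hs)), hp⟩
    have hd := hdim (Finset.cons t S ht) (Finset.cons_nonempty _)
    refine pull_pair_injective T (Z.resLE hle₁ ((hdim S hS).trans hd.symm))
      (Z.resLE hle₂ ((hdim {t} (Finset.singleton_nonempty t)).trans hd.symm)) ?_ _ ?_ ?_
    · have key : ∀ {U U' : Z.scheme.Opens} (h : U ≤ U') (p : (U' : Scheme.{u})),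
          p ∈ Set.range (Z.scheme.homOfLE h) ↔ U'.ι p ∈ U := fun h p ↦ mem_range_homOfLE h p
      ext p
      rw [Set.mem_compl_iff]
      refine (key hle₁ p).trans (Iff.trans ?_ (not_congr (key hle₂ p)).symm)
      obtain ⟨s, hs, hps⟩ := (hmem _ _).mp p.2
      constructor
      · intro h1 h2
        obtain ⟨a, ha, ha'⟩ := (hmem _ _).mp h1
        obtain ⟨b, hb, hb'⟩ := (hmem _ _).mp h2
        obtain rfl := Finset.mem_singleton.mp hb
        exact Set.disjoint_left.mp (hdisj fun e : a = b ↦ ht (e ▸ ha)) ha' hb'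
      · intro h
        rcases Finset.mem_cons.mp hs with rfl | hs
        · exact absurd ((hmem _ _).mpr ⟨s, Finset.mem_singleton_self _, hps⟩) h
        · exact (hmem _ _).mpr ⟨s, hs, hps⟩
    · rw [pull_pull, pull_congr T (g := Z.resι (O S) (hdim S hS)) (Scheme.homOfLE_ι _ hle₁)]
      exact ih
    · rw [pull_pull, pull_congr T
        (g := Z.resι (O {t}) (hdim {t} (Finset.singleton_nonempty t))) (Scheme.homOfLE_ι _ hle₂)]
      exact hsingle t _

include hdisj hcov in
theorem pull_push_member (s t : ι) (a : T.gp (W t) M i n)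
    (hi : i = i + 2 * relCodim (W t).scheme Z.scheme) (hn : n = n + relCodim (W t).scheme Z.scheme)
    (a' : T.gp (W s) M i n) (ha : ∀ h : s = t, a' = h ▸ a) (ha' : s ≠ t → a' = 0) :
    haveI := isClosedImmersion_member W e hdisj hcov t
    (T.pull (e s) M i n).hom ((T.push (e t).hom M i n i n hi hn).hom a) = a' := by
  have := isClosedImmersion_member W e hdisj hcov t
  rcases eq_or_ne s t with rfl | hst
  · obtain rfl : a' = a := ha rfl
    have hc : relCodim (W s).scheme (W s).scheme = 0 := sub_self _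
    rw [push_pull_apply T (e s).hom (𝟙 (W s).scheme) (e s) (𝟙 (W s))
      (IsKernelPair.id_of_mono (e s).hom) hi hn (by rw [hc]; ring) (by rw [hc]; ring), pull_id,
      T.push_id]
    rfl
  · rw [ha' hst]
    let C : Z.scheme.Opens :=
      ⟨(Set.range (e t).hom)ᶜ, (isClosed_range_member W e hdisj hcov t).isOpen_compl⟩
    have hsC : Set.range (e s).hom ⊆ C := fun p hp ↦ Set.disjoint_left.mp (hdisj hst) hp
    have hdC := dim_opens_eq_of_mem_range (e s) C hsC
    let D : Decomp Z :=
      { Z := W t, U := Z.res C, i := (e t).hom, closedImm := this, j := Z.resι C hdC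
        range_eq := C.range_ι }
    let g : W s ⟶ Z.res C :=
      ⟨IsOpenImmersion.lift C.ι (e s).hom (C.range_ι.symm ▸ hsC), by
        have : IsOpenImmersion (IsOpenImmersion.lift C.ι (e s).hom (C.range_ι.symm ▸ hsC) ≫ C.ι) := by
          rw [IsOpenImmersion.lift_fac]; infer_instance
        exact IsOpenImmersion.of_comp _ C.ι, (e s).dim_eq.trans hdC.symm⟩
    rw [pull_congr T (g := g ≫ D.j) (IsOpenImmersion.lift_fac _ _ _).symm, ← pull_pull,
      show (T.pull D.j M i n).hom ((T.push (e t).hom M i n i n hi hn).hom a) = 0 from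
        (exact_push_pull' T D hi hn _).mpr ⟨a, rfl⟩, map_zero]

end Cover

theorem isOpenImmersion_of_isClosedImmersion_of_isOpen_range {X Y : Scheme.{u}} (f : X ⟶ Y)
    [IsClosedImmersion f] [IsReduced Y] (h : IsOpen (Set.range f)) : IsOpenImmersion f := by
  let O : Y.Opens := ⟨Set.range f, h⟩
  have : IsReduced (O : Scheme.{u}) := isReduced_of_isOpenImmersion O.ι
  have : Surjective (f ∣_ O) := ⟨fun p ↦ by
    obtain ⟨q, hq⟩ := p.2
    exact ⟨⟨q, show f q ∈ O from ⟨q, rfl⟩⟩, O.ι.isOpenEmbedding.injective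
      ((apply_of_comp_eq (morphismRestrict_ι f O) _).trans hq)⟩⟩
  have : IsIso (f ∣_ O) := isIso_of_isClosedImmersion_of_surjective _
  have htop : f ⁻¹ᵁ O = ⊤ := by ext q; exact iff_of_true ⟨q, rfl⟩ trivial
  have : IsIso (f ⁻¹ᵁ O).ι := by rw [htop]; exact (inferInstance : IsIso X.topIso.hom)
  have hfac : f = inv (f ⁻¹ᵁ O).ι ≫ (f ∣_ O) ≫ O.ι := by
    rw [IsIso.eq_inv_comp, morphismRestrict_ι]
  rw [hfac]
  infer_instance

theorem push_bijective_of_isIso {X Y : Obj V} (f : X.scheme ⟶ Y.scheme) [IsIso f] [IsProper f]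
    (hi : i' = i + 2 * relCodim X.scheme Y.scheme) (hn : n' = n + relCodim X.scheme Y.scheme) :
    Function.Bijective (T.push f M i n i' n' hi hn).hom := by
  have hXY : WeilCoh.dim X.scheme = WeilCoh.dim Y.scheme := dim_eq_of_iso (asIso f)
  have hX : relCodim X.scheme X.scheme = 0 := sub_self _
  have hY : relCodim Y.scheme Y.scheme = 0 := sub_self _
  have hc : relCodim X.scheme Y.scheme = 0 := by simp only [relCodim, hXY, sub_self]
  have hc' : relCodim Y.scheme X.scheme = 0 := by simp only [relCodim, hXY, sub_self]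
  have hi' : i = i' + 2 * relCodim Y.scheme X.scheme := by rw [hi, hc, hc']; ring
  have hn' : n = n' + relCodim Y.scheme X.scheme := by rw [hn, hc, hc']; ring
  refine ⟨fun a b h ↦ ?_, fun b ↦ ⟨(T.push (inv f) M i' n' i n hi' hn').hom b, ?_⟩⟩
  · have h2 := congrArg (T.push (inv f) M i' n' i n hi' hn').hom h
    rw [push_comp_apply T f (inv f) hi hn hi' hn' (by rw [hX]; ring) (by rw [hX]; ring),
      push_comp_apply T f (inv f) hi hn hi' hn' (by rw [hX]; ring) (by rw [hX]; ring),
      push_congr T (IsIso.hom_inv_id f), T.push_id] at h2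
    exact h2
  · rw [push_comp_apply T (inv f) f hi' hn' hi hn (by rw [hY]; ring) (by rw [hY]; ring),
      push_congr T (IsIso.inv_hom_id f), T.push_id]
    rfl

section Closures

variable (X : Obj V) {k : ℕ} (S : Finset X.scheme)

/-- The union of the closures of finitely many points. -/
def closuresUnion : TopologicalSpace.Closeds X.scheme :=
  ⟨⋃ x ∈ S, closure ({x} : Set X.scheme), S.finite_toSet.isClosed_biUnion fun _ _ ↦ isClosed_closure⟩

theorem mem_closuresUnion {z : X.scheme} :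
    z ∈ closuresUnion X S ↔ ∃ x ∈ S, z ∈ closure ({x} : Set X.scheme) := by
  change z ∈ ⋃ x ∈ S, closure ({x} : Set X.scheme) ↔ _
  simp

/-- The union of the closures of the points of `S`, cut by an open, as an object. -/
abbrev famZ (U : X.scheme.Opens) : Obj V :=
  (closedSub X (closuresUnion X S)).res (closedSubι X (closuresUnion X S) ⁻¹ᵁ U)

/-- Its closed immersion into the open. -/
abbrev famZι (U : X.scheme.Opens) : (famZ X S U).scheme ⟶ (X.res U).scheme :=
  closedSubι X (closuresUnion X S) ∣_ U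

variable {X S}

theorem exists_ptSub_to_union {x : X.scheme} (hx : x ∈ S) :
    ∃ g : (X.ptSub x).scheme ⟶ (closedSub X (closuresUnion X S)).scheme,
      g ≫ closedSubι X (closuresUnion X S) = X.ptSubι x :=
  Groth.Agent.RedSepLib.exists_lift_of_isReduced _ _ (by
    rw [range_ptSubι, range_closedSubι]
    exact fun z hz ↦ (mem_closuresUnion X S).mpr ⟨x, hx, hz⟩)

theorem dim_famZ (hS : ∀ x ∈ S, WeilCoh.codim X.scheme x = k) {U : X.scheme.Opens}
    (hU : ContainsFj X k U) {x : X.scheme} (hx : x ∈ S) :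
    WeilCoh.dim (famZ X S U).scheme + k = WeilCoh.dim X.scheme := by
  set K := closuresUnion X S
  let O : (closedSub X K).scheme.Opens := closedSubι X K ⁻¹ᵁ U
  have hpd : ∀ p : (O : Scheme.{u}),
      WeilCoh.pdim (O : Scheme.{u}) p = WeilCoh.pdim X.scheme (closedSubι X K (O.ι p)) := fun p ↦ by
    rw [pdim_eq_of_isClosedEmbedding (closedSubι X K) (closedSubι X K).isClosedEmbedding,
      pdim_eq_of_isOpenImmersion (closedSub X K) O.ι p]
  have hxK : x ∈ Set.range (closedSubι X K) := by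
    rw [range_closedSubι]; exact (mem_closuresUnion X S).mpr ⟨x, hx, subset_closure rfl⟩
  obtain ⟨q, hq⟩ := hxK
  let p : (O : Scheme.{u}) := ⟨q, show closedSubι X K q ∈ U from hq ▸ hU x (hS x hx).le⟩
  have : Nonempty (famZ X S U).scheme := ⟨p⟩
  obtain ⟨p', hp'⟩ := exists_pdim_eq_dim (dim_lt_top (famZ X S U))
  have h1 : WeilCoh.pdim X.scheme x ≤ WeilCoh.dim (famZ X S U).scheme := by
    rw [← hq]
    exact (hpd p).symm.trans_le (pdim_le_dim (dim_lt_top (famZ X S U)) p)
  obtain ⟨y, hy, hpy⟩ := (mem_closuresUnion X S).mp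
    ((range_closedSubι X K).le ⟨O.ι p', rfl⟩)
  have h2 : WeilCoh.dim (famZ X S U).scheme ≤ WeilCoh.pdim X.scheme y :=
    hp' ▸ (hpd p').trans_le (pdim_le_of_specializes (dim_lt_top X) (specializes_iff_mem_closure.mpr hpy))
  have h3 := codim_add_pdim X x
  have h4 := codim_add_pdim X y
  have h5 := hS x hx
  have h6 := hS y hy
  omega

theorem exists_member (hS : ∀ x ∈ S, WeilCoh.codim X.scheme x = k) {U : X.scheme.Opens}
    (hU : ContainsFj X k U)
    (hsep : ∀ x ∈ S, ∀ y ∈ S, x ≠ y → ∀ z ∈ U, z ∈ closure ({x} : Set X.scheme) →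
      z ∉ closure ({y} : Set X.scheme))
    {x : X.scheme} (hx : x ∈ S) :
    ∃ e : (X.ptSub x).res (ptOpen X x U) ⟶ famZ X S U,
      e.hom ≫ famZι X S U = X.ptSubι x ∣_ U ∧
      ∀ p : (famZ X S U).scheme, p ∈ Set.range e.hom ↔
        U.ι (famZι X S U p) ∈ closure ({x} : Set X.scheme) := by
  set K := closuresUnion X S
  let O : (closedSub X K).scheme.Opens := closedSubι X K ⁻¹ᵁ U
  obtain ⟨g, hg⟩ := exists_ptSub_to_union (X := X) hx
  have hr : Set.range ((ptOpen X x U).ι ≫ g) ⊆ Set.range O.ι := by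
    rintro _ ⟨q, rfl⟩
    rw [Scheme.Opens.range_ι]
    change closedSubι X K (g ((ptOpen X x U).ι q)) ∈ U
    rw [apply_of_comp_eq hg]
    exact q.2
  let φ : (ptOpen X x U : Scheme.{u}) ⟶ (O : Scheme.{u}) := IsOpenImmersion.lift O.ι _ hr
  have hφ : φ ≫ famZι X S U = X.ptSubι x ∣_ U := by
    rw [← cancel_mono U.ι, Category.assoc]
    erw [morphismRestrict_ι, morphismRestrict_ι]
    rw [← Category.assoc, IsOpenImmersion.lift_fac, Category.assoc, hg]
  have hcl : IsClosedImmersion φ := by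
    have : IsClosedImmersion (φ ≫ famZι X S U) := by rw [hφ]; infer_instance
    exact IsClosedImmersion.of_comp φ (famZι X S U)
  have hrange : ∀ p : (O : Scheme.{u}), p ∈ Set.range φ ↔
      U.ι (famZι X S U p) ∈ closure ({x} : Set X.scheme) := by
    intro p
    constructor
    · rintro ⟨q, rfl⟩
      rw [← range_ptSubι]
      exact ⟨_, ((congrArg U.ι (apply_of_comp_eq hφ q)).trans
        (apply_of_comp_eq (morphismRestrict_ι (X.ptSubι x) U) q)).symm⟩
    · intro hp
      rw [← range_ptSubι] at hp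
      obtain ⟨q, hq⟩ := hp
      refine ⟨⟨q, show X.ptSubι x q ∈ U by rw [hq]; exact (famZι X S U p).2⟩, ?_⟩
      exact (famZι X S U).isClosedEmbedding.injective (U.ι.isOpenEmbedding.injective
        (((congrArg U.ι (apply_of_comp_eq hφ _)).trans
          (apply_of_comp_eq (morphismRestrict_ι (X.ptSubι x) U) _)).trans hq))
  have hopen : IsOpen (Set.range φ) := by
    classical
    let C : Set X.scheme := ⋃ y ∈ S.erase x, closure ({y} : Set X.scheme)
    have hC : IsClosed C := (S.erase x).finite_toSet.isClosed_biUnion fun _ _ ↦ isClosed_closure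
    have : Set.range φ = (fun p ↦ U.ι (famZι X S U p)) ⁻¹' Cᶜ := by
      ext p
      rw [hrange, Set.mem_preimage, Set.mem_compl_iff]
      constructor
      · intro hp hpC
        obtain ⟨y, hy, hpy⟩ := Set.mem_iUnion₂.mp hpC
        exact hsep x hx y (Finset.mem_erase.mp hy).2 (Finset.mem_erase.mp hy).1.symm _
          (famZι X S U p).2 hp hpy
      · intro hpC
        have hmem : U.ι (famZι X S U p) ∈ K := by
          rw [← SetLike.mem_coe, ← range_closedSubι]
          exact ⟨_, (apply_of_comp_eq (morphismRestrict_ι (closedSubι X K) U) p).symm⟩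
        obtain ⟨y, hy, hpy⟩ := (mem_closuresUnion X S).mp hmem
        by_contra hne
        exact hpC (Set.mem_iUnion₂.mpr ⟨y, Finset.mem_erase.mpr ⟨fun e ↦ hne (e ▸ hpy), hy⟩, hpy⟩)
    rw [this]
    exact hC.isOpen_compl.preimage (U.ι.continuous.comp (famZι X S U).continuous)
  have : IsReduced (O : Scheme.{u}) := isReduced_of_isOpenImmersion O.ι
  have hoi := isOpenImmersion_of_isClosedImmersion_of_isOpen_range φ hopen
  refine ⟨⟨φ, hoi, ?_⟩, hφ, hrange⟩
  have h1 := dim_ptSub_res X (ptOpen X x U) (ptOpen_nonempty X (hU x (hS x hx).le))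
  have h2 := dim_famZ hS hU hx
  have h3 := codim_add_pdim X x
  have h4 := hS x hx
  change WeilCoh.dim (ptOpen X x U : Scheme.{u}) = WeilCoh.dim (famZ X S U).scheme
  omega

end Closures

end Groth.Agent.BMCoh

end
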