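import Groth.Agent.BMCoh.Colim

/-!
# Elementwise consequences of the Gysin sequences
-/

universe u

open CategoryTheory AlgebraicGeometry Opposite CategoryTheory.Limits TopologicalSpace

noncomputable section

namespace Groth.Agent.BMCoh

open _root_.BMCoh

set_option linter.unusedSectionVars false

variable {V : ObjectProperty Scheme.{u}} [hV : IsConstructible V] {R : Type u} [CommRing R]
  {A : Coefs R} (T : PreTheory V R A) {M : A.Cat} {i n i' n' : ℤ}

theorem pull_pull {X Y Z : Obj V} (f : X ⟶ Y) (g : Y ⟶ Z) (a : T.gp Z M i n) :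
    (T.pull f M i n).hom ((T.pull g M i n).hom a) = (T.pull (f ≫ g) M i n).hom a := by
  show _ = (((T.H i n).map (f ≫ g).op).app M).hom a
  rw [op_comp, Functor.map_comp]
  rfl

theorem pull_id {X : Obj V} (a : T.gp X M i n) : (T.pull (𝟙 X) M i n).hom a = a := by
  show (((T.H i n).map (𝟙 X).op).app M).hom a = a
  rw [op_id, CategoryTheory.Functor.map_id]
  rfl

theorem pull_congr {X Y : Obj V} {f g : X ⟶ Y} (h : f.hom = g.hom) (a : T.gp Y M i n) :
    (T.pull f M i n).hom a = (T.pull g M i n).hom a := by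
  obtain rfl : f = g := Hom.ext h
  rfl

theorem resLE_comp (X : Obj V) {U₁ U₂ U₃ : X.scheme.Opens} (h₁ : U₁ ≤ U₂) (h₂ : U₂ ≤ U₃)
    (d₁ : WeilCoh.dim (U₁ : Scheme.{u}) = WeilCoh.dim (U₂ : Scheme.{u}))
    (d₂ : WeilCoh.dim (U₂ : Scheme.{u}) = WeilCoh.dim (U₃ : Scheme.{u})) :
    X.resLE h₁ d₁ ≫ X.resLE h₂ d₂ = X.resLE (h₁.trans h₂) (d₁.trans d₂) :=
  Hom.ext (Scheme.homOfLE_homOfLE X.scheme h₁ h₂)

theorem resLE_self (X : Obj V) {U : X.scheme.Opens} (h : U ≤ U)
    (d : WeilCoh.dim (U : Scheme.{u}) = WeilCoh.dim (U : Scheme.{u})) :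
    X.resLE h d = 𝟙 (X.res U) :=
  Hom.ext (Scheme.homOfLE_rfl _ _)

theorem pull_resLE_resLE (X : Obj V) {U₁ U₂ U₃ : X.scheme.Opens} (h₁ : U₁ ≤ U₂) (h₂ : U₂ ≤ U₃)
    (d₁ : WeilCoh.dim (U₁ : Scheme.{u}) = WeilCoh.dim (U₂ : Scheme.{u}))
    (d₂ : WeilCoh.dim (U₂ : Scheme.{u}) = WeilCoh.dim (U₃ : Scheme.{u}))
    (a : T.gp (X.res U₃) M i n) :
    (T.pull (X.resLE h₁ d₁) M i n).hom ((T.pull (X.resLE h₂ d₂) M i n).hom a) =
      (T.pull (X.resLE (h₁.trans h₂) (d₁.trans d₂)) M i n).hom a := by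
  rw [pull_pull, resLE_comp]

/-- Restriction between opens with the same points is bijective. -/
theorem pull_resLE_bijective (X : Obj V) {U U' : X.scheme.Opens} (h : U ≤ U') (h' : U' ≤ U)
    (d : WeilCoh.dim (U : Scheme.{u}) = WeilCoh.dim (U' : Scheme.{u})) :
    Function.Bijective (T.pull (X.resLE h d) M i n).hom := by
  obtain rfl := le_antisymm h h'
  rw [show X.resLE h d = 𝟙 _ from resLE_self X h d]
  exact ⟨fun a b e ↦ by rwa [pull_id, pull_id] at e, fun a ↦ ⟨a, pull_id T a⟩⟩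

theorem relCodim_eq_zero {X Y : Obj V} (f : X ⟶ Y) : relCodim X.scheme Y.scheme = 0 := by
  rw [relCodim, f.dim_eq, sub_self]

theorem exact_push_pull' {X : Obj V} (D : Decomp X)
    (hi : i = i' + 2 * relCodim D.Z.scheme X.scheme) (hn : n = n' + relCodim D.Z.scheme X.scheme) :
    Function.Exact (T.push D.i M i' n' i n hi hn).hom (T.pull D.j M i n).hom := by
  obtain ⟨k, rfl⟩ : ∃ k, i = k + 1 := ⟨i - 1, by ring⟩
  exact T.exact_push_pull D M k n i' n' hi hn

theorem pull_res {X : Obj V} (D : Decomp X) (hi : i' = i + 1 - 2 * D.codim)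
    (hn : n' = n - D.codim) (a : T.gp X M i n) :
    (T.res D M i n i' n' hi hn).hom ((T.pull D.j M i n).hom a) = 0 :=
  ((T.exact_pull_res D M i n i' n' hi hn) _).mpr ⟨a, rfl⟩

theorem res_push_zero {X : Obj V} (D : Decomp X) {i₂ : ℤ} (hi : i' = i + 1 - 2 * D.codim)
    (hn : n' = n - D.codim) (hi' : i₂ = i' + 2 * relCodim D.Z.scheme X.scheme)
    (hn' : n = n' + relCodim D.Z.scheme X.scheme) (a : T.gp D.U M i n) :
    (T.push D.i M i' n' i₂ n hi' hn').hom ((T.res D M i n i' n' hi hn).hom a) = 0 := by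
  obtain rfl : i₂ = i + 1 := by rw [hi', hi]; simp only [Decomp.codim]; ring
  exact ((T.exact_res_push D M i n i' n' hi hn hi' hn') _).mpr ⟨a, rfl⟩

theorem push_zero_exists_res {X : Obj V} (D : Decomp X) {i₂ : ℤ} (hi : i' = i + 1 - 2 * D.codim)
    (hn : n' = n - D.codim) (hi' : i₂ = i' + 2 * relCodim D.Z.scheme X.scheme)
    (hn' : n = n' + relCodim D.Z.scheme X.scheme) (z : T.gp D.Z M i' n')
    (h : (T.push D.i M i' n' i₂ n hi' hn').hom z = 0) :
    ∃ a, (T.res D M i n i' n' hi hn).hom a = z := by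
  obtain rfl : i₂ = i + 1 := by rw [hi', hi]; simp only [Decomp.codim]; ring
  exact ((T.exact_res_push D M i n i' n' hi hn hi' hn') _).mp h

theorem push_congr {X Y : Obj V} {f g : X.scheme ⟶ Y.scheme} [IsProper f] [IsProper g] (h : f = g)
    (hi : i' = i + 2 * relCodim X.scheme Y.scheme) (hn : n' = n + relCodim X.scheme Y.scheme) :
    T.push f M i n i' n' hi hn = T.push g M i n i' n' hi hn := by
  subst h; rfl

theorem push_comp_apply {X Y Z : Obj V} (f : X.scheme ⟶ Y.scheme) (g : Y.scheme ⟶ Z.scheme)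
    [IsProper f] [IsProper g] {i'' n'' : ℤ}
    (hi : i' = i + 2 * relCodim X.scheme Y.scheme) (hn : n' = n + relCodim X.scheme Y.scheme)
    (hi' : i'' = i' + 2 * relCodim Y.scheme Z.scheme) (hn' : n'' = n' + relCodim Y.scheme Z.scheme)
    (hi'' : i'' = i + 2 * relCodim X.scheme Z.scheme) (hn'' : n'' = n + relCodim X.scheme Z.scheme)
    (a : T.gp X M i n) :
    (T.push g M i' n' i'' n'' hi' hn').hom ((T.push f M i n i' n' hi hn).hom a) =
      (T.push (f ≫ g) M i n i'' n'' hi'' hn'').hom a := by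
  rw [← T.push_comp f g M i n i' n' i'' n'' hi hn hi' hn' hi'' hn'']
  rfl

theorem push_pull_apply {X Y X' Y' : Obj V} (f : X.scheme ⟶ Y.scheme) [IsProper f]
    (f' : X'.scheme ⟶ Y'.scheme) [IsProper f'] (g : Y' ⟶ Y) (g' : X' ⟶ X)
    (hP : IsPullback g'.hom f' f g.hom)
    (hi : i' = i + 2 * relCodim X.scheme Y.scheme) (hn : n' = n + relCodim X.scheme Y.scheme)
    (hi' : i' = i + 2 * relCodim X'.scheme Y'.scheme)
    (hn' : n' = n + relCodim X'.scheme Y'.scheme) (a : T.gp X M i n) :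
    (T.pull g M i' n').hom ((T.push f M i n i' n' hi hn).hom a) =
      (T.push f' M i n i' n' hi' hn').hom ((T.pull g' M i n).hom a) :=
  congrArg (fun φ ↦ φ.hom a) (T.push_pull f f' g g' hP M i n i' n' hi hn hi' hn')

theorem res_pull_apply {X X' : Obj V} (D : Decomp X) (D' : Decomp X') (g : X' ⟶ X)
    (gZ : D'.Z ⟶ D.Z) (gU : D'.U ⟶ D.U) (hZ : gZ.hom ≫ D.i = D'.i ≫ g.hom)
    (hU : gU.hom ≫ D.j.hom = D'.j.hom ≫ g.hom)
    (hi : i' = i + 1 - 2 * D.codim) (hn : n' = n - D.codim)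
    (hi' : i' = i + 1 - 2 * D'.codim) (hn' : n' = n - D'.codim) (a : T.gp D.U M i n) :
    (T.pull gZ M i' n').hom ((T.res D M i n i' n' hi hn).hom a) =
      (T.res D' M i n i' n' hi' hn').hom ((T.pull gU M i n).hom a) :=
  congrArg (fun φ ↦ φ.hom a) (T.res_pull D D' g gZ gU hZ (Hom.ext hU) M i n i' n' hi hn hi' hn')

section TwoPieces

variable {X Y W : Obj V} (iX : X ⟶ W) (iY : Y ⟶ W)
  (h : Set.range iX.hom = (Set.range iY.hom)ᶜ)

include h in
theorem isClosedImmersion_of_compl : IsClosedImmersion iY.hom := by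
  refine IsClosedImmersion.of_isPreimmersion _ ?_
  rw [← compl_compl (Set.range iY.hom), ← h]
  exact iX.hom.isOpenEmbedding.isOpen_range.isClosed_compl

/-- The decomposition of `W` into two complementary open pieces. -/
def decompOfCompl : Decomp W where
  Z := Y
  U := X
  i := iY.hom
  closedImm := isClosedImmersion_of_compl iX iY h
  j := iX
  range_eq := h

include h in
theorem pull_pair_injective (a : T.gp W M i n) (hX : (T.pull iX M i n).hom a = 0)
    (hY : (T.pull iY M i n).hom a = 0) : a = 0 := by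
  have := isClosedImmersion_of_compl iX iY h
  have hc : relCodim Y.scheme W.scheme = 0 := relCodim_eq_zero iY
  have hc' : relCodim Y.scheme Y.scheme = 0 := relCodim_eq_zero (𝟙 Y)
  have hi : i = i + 2 * relCodim Y.scheme W.scheme := by rw [hc]; ring
  have hn : n = n + relCodim Y.scheme W.scheme := by rw [hc]; ring
  obtain ⟨w, rfl⟩ := (exact_push_pull' T (decompOfCompl iX iY h) hi hn _).mp hX
  have hP : IsPullback (𝟙 Y : Y ⟶ Y).hom (𝟙 Y.scheme) iY.hom iY.hom :=
    IsKernelPair.id_of_mono iY.hom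
  change (T.pull iY M i n).hom ((T.push iY.hom M i n i n hi hn).hom w) = 0 at hY
  rw [push_pull_apply T iY.hom (𝟙 Y.scheme) iY (𝟙 Y) hP hi hn (by rw [hc']; ring)
    (by rw [hc']; ring), pull_id, T.push_id] at hY
  change w = 0 at hY
  rw [hY]
  exact map_zero _

end TwoPieces

end Groth.Agent.BMCoh

end
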