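import Groth.Agent.BMCoh.Piece

/-!
# Peeling the points of codimension `j + 1` one at a time

The two inductions behind exactness at `H(F_j X)` and at `H(F_{j+1} X)`.
-/

universe u

open CategoryTheory AlgebraicGeometry Opposite CategoryTheory.Limits TopologicalSpace

noncomputable section

namespace Groth.Agent.BMCoh

open _root_.BMCoh

set_option linter.unusedSectionVars false

variable {V : ObjectProperty Scheme.{u}} [hV : IsConstructible V] {R : Type u} [CommRing R]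
  {A : Coefs R} (T : PreTheory V R A) {M : A.Cat} {i n i' n' : ℤ} (X : Obj V) {j : ℕ}

theorem containsFj_succ_of {U : X.scheme.Opens} (hU : ContainsFj X j U)
    (h : ∀ x, WeilCoh.codim X.scheme x = j + 1 → x ∈ U) : ContainsFj X (j + 1) U := by
  intro y hy
  rcases Nat.lt_or_ge j (WeilCoh.codim X.scheme y) with hj | hj
  · exact h y (by omega)
  · exact hU y hj

theorem hi_piece {x : X.scheme} (hx : WeilCoh.codim X.scheme x = j + 1) {U : X.scheme.Opens}
    (hxU : x ∈ U) (hd : WeilCoh.dim (U : Scheme.{u}) = WeilCoh.dim X.scheme)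
    (hi : i = i' + 2 * ((j : ℤ) + 1)) :
    i = i' + 2 * relCodim ((X.ptSub x).res (ptOpen X x U)).scheme (X.res U).scheme := by
  rw [relCodim_piece X hxU hd, hx, hi]; push_cast; ring

theorem hn_piece {x : X.scheme} (hx : WeilCoh.codim X.scheme x = j + 1) {U : X.scheme.Opens}
    (hxU : x ∈ U) (hd : WeilCoh.dim (U : Scheme.{u}) = WeilCoh.dim X.scheme)
    (hn : n = n' + ((j : ℤ) + 1)) :
    n = n' + relCodim ((X.ptSub x).res (ptOpen X x U)).scheme (X.res U).scheme := by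
  rw [relCodim_piece X hxU hd, hx, hn]; push_cast; ring

/-- A submodule of `H(F_{j+1} X)` containing all push-forwards from the points of codimension
`j + 1` contains the kernel of the restriction to `F_j X`. -/
theorem ker_fjRes_le (hi : i = i' + 2 * ((j : ℤ) + 1)) (hn : n = n' + ((j : ℤ) + 1))
    (N : Submodule R (T.fjGp X (j + 1) M i n))
    (hN : ∀ (x : X.scheme) (hx : WeilCoh.codim X.scheme x = j + 1)
      (U : Idx X (ContainsFj X (j + 1))) (w : T.gp ((X.ptSub x).res (ptOpen X x U.1)) M i' n'),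
      (cι T M i n U).hom ((pushPt T X x U.1 M i' n' i n
        (hi_piece X hx (U.2.1 x hx.le) U.2.2 hi) (hn_piece X hx (U.2.1 x hx.le) U.2.2 hn)).hom w) ∈ N)
    (α : T.fjGp X (j + 1) M i n) (hα : ((T.fjRes X (Nat.le_succ j) i n).app M).hom α = 0) :
    α ∈ N := by
  obtain ⟨U, a, rfl⟩ := exists_rep T α
  rw [ocolimMap_cι] at hα
  obtain ⟨U₀, hle, h0⟩ := (cι_eq_zero_iff T).mp hα
  suffices H : ∀ (k : ℕ) (U : Idx X (ContainsFj X (j + 1))) (a : T.gp (X.res U.1) M i n)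
      (U₀ : X.scheme.Opens) (hU₀ : ContainsFj X j U₀) (hle : U₀ ≤ U.1),
      {x : X.scheme | x ∉ U₀ ∧ WeilCoh.codim X.scheme x = j + 1}.ncard ≤ k →
      (T.pull (X.resLE hle ((dim_eq_of_containsFj X hU₀).trans U.2.2.symm)) M i n).hom a = 0 →
      (cι T M i n U).hom a ∈ N from H _ U a U₀.1 U₀.2.1 hle le_rfl h0
  intro k
  induction k with
  | zero =>
    intro U a U₀ hU₀ hle hk h0
    have hempty := (Set.ncard_eq_zero (finite_codim_compl X hU₀)).mp (Nat.le_zero.mp hk)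
    have hU₀' : ContainsFj X (j + 1) U₀ := containsFj_succ_of X hU₀ fun x hx ↦ by
      by_contra hxU
      exact Set.notMem_empty x (hempty ▸ (⟨hxU, hx⟩ : x ∈ {x : X.scheme | x ∉ U₀ ∧ WeilCoh.codim X.scheme x = j + 1}))
    rw [← pull_cι T (U := mkFjIdx X U₀ hU₀') (U' := U) hle a]
    erw [h0]
    rw [map_zero]
    exact N.zero_mem
  | succ k ih =>
    intro U a U₀ hU₀ hle hk h0
    rcases Set.eq_empty_or_nonempty {x : X.scheme | x ∉ U₀ ∧ WeilCoh.codim X.scheme x = j + 1} with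
      hempty | ⟨x, hxU₀, hx⟩
    · exact ih U a U₀ hU₀ hle (by rw [hempty]; simp) h0
    obtain ⟨K, hUK, hxK, hcov, hCU, hB⟩ := exists_piece X hU₀ hx hxU₀
    let Bc : X.scheme.Opens :=
      ⟨(closure ({x} : Set X.scheme) ∩ K)ᶜ, (isClosed_closure.inter K.isClosed).isOpen_compl⟩
    have hU' : ContainsFj X (j + 1) (U.1 ⊓ Bc) := fun y hy ↦
      ⟨U.2.1 y hy, fun ⟨h1, h2⟩ ↦ (hB y h1 h2).not_ge hy⟩
    let U' : Idx X (ContainsFj X (j + 1)) := mkFjIdx X (U.1 ⊓ Bc) hU'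
    have hU'le : U' ≤ U := inf_le_left (b := Bc)
    let U₁ : X.scheme.Opens := U'.1 ⊓ ⟨(K : Set X.scheme)ᶜ, K.isClosed.isOpen_compl⟩
    have hxU₁ : x ∈ U₁ := ⟨U'.2.1 x hx.le, hxK⟩
    have hU₁ : ContainsFj X j U₁ := fun y hy ↦
      ⟨U'.2.1 y (hy.trans (Nat.le_succ j)), fun hK ↦ Set.disjoint_left.mp hUK (hU₀ y hy) hK⟩
    let U₀' : X.scheme.Opens := U₀ ⊓ U₁
    have hU₀' : ContainsFj X j U₀' := fun y hy ↦ ⟨hU₀ y hy, hU₁ y hy⟩
    have hpiece : ∀ y ∈ U₁, y ∈ U₀' ↔ y ∉ closure ({x} : Set X.scheme) := by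
      intro y hy
      constructor
      · intro h hC
        exact Set.notMem_empty y (hCU ▸ (⟨hC, h.1⟩ : y ∈ closure ({x} : Set X.scheme) ∩ U₀))
      · intro hC
        refine ⟨?_, hy⟩
        by_contra hyU
        exact (hcov y hyU).elim hC hy.2
    let D := ptDecomp X x U₀' U₁ inf_le_right
      ((dim_eq_of_containsFj X hU₀').trans (dim_eq_of_containsFj X hU₁).symm) hpiece
    let a₁ : T.gp (X.res U₁) M i n :=
      (T.pull (X.resLE ((inf_le_left).trans hU'le)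
        ((dim_eq_of_containsFj X hU₁).trans U.2.2.symm)) M i n).hom a
    have ha₁ : (T.pull D.j M i n).hom a₁ = 0 := by
      change (T.pull (X.resLE _ _) M i n).hom ((T.pull (X.resLE _ _) M i n).hom a) = 0
      have hz := congrArg (T.pull (X.resLE (show U₀' ≤ U₀ from inf_le_left)
        ((dim_eq_of_containsFj X hU₀').trans (dim_eq_of_containsFj X hU₀).symm)) M i n).hom h0
      rw [pull_resLE_resLE, map_zero] at hz
      rw [pull_resLE_resLE]
      exact hz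
    obtain ⟨w₁, hw₁⟩ := (exact_push_pull' T D (hi_piece X hx hxU₁ (dim_eq_of_containsFj X hU₁) hi)
      (hn_piece X hx hxU₁ (dim_eq_of_containsFj X hU₁) hn) a₁).mp ha₁
    have heq : ptOpen X x U₁ = ptOpen X x U'.1 :=
      ptOpen_eq_of_inter X fun z hz ↦ ⟨fun h ↦ h.1, fun h ↦ ⟨h, fun hK ↦ h.2 ⟨hz, hK⟩⟩⟩
    obtain ⟨w, hw⟩ := (resPt_bijective T X (M := M) (i := i') (n := n')
      (show U₁ ≤ U'.1 from inf_le_left) hxU₁ heq).2 w₁
    let a' : T.gp (X.res U'.1) M i n := (T.pull (resIdx hU'le) M i n).hom a -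
      (pushPt T X x U'.1 M i' n' i n (hi_piece X hx (U'.2.1 x hx.le) U'.2.2 hi)
        (hn_piece X hx (U'.2.1 x hx.le) U'.2.2 hn)).hom w
    have ha' : (cι T M i n U').hom a' ∈ N := by
      refine ih U' a' U₁ hU₁ inf_le_left ?_ ?_
      · refine Nat.le_of_lt_succ (lt_of_lt_of_le (Set.ncard_lt_ncard ?_
          (finite_codim_compl X hU₀)) hk)
        refine ⟨fun y ⟨hy, hc⟩ ↦ ⟨fun hyU ↦ hy ⟨U'.2.1 y hc.le,
          fun hK ↦ Set.disjoint_left.mp hUK hyU hK⟩, hc⟩, fun h ↦ (h ⟨hxU₀, hx⟩).1 hxU₁⟩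
      · rw [map_sub, pushPt_pull T X (show U₁ ≤ U'.1 from inf_le_left) hxU₁
          ((dim_eq_of_containsFj X hU₁).trans U'.2.2.symm)
          (hi_piece X hx (U'.2.1 x hx.le) U'.2.2 hi) (hn_piece X hx (U'.2.1 x hx.le) U'.2.2 hn)
          (hi_piece X hx hxU₁ (dim_eq_of_containsFj X hU₁) hi)
          (hn_piece X hx hxU₁ (dim_eq_of_containsFj X hU₁) hn), hw, pull_resLE_resLE, sub_eq_zero]
        exact hw₁.symm
    have hsum := N.add_mem ha' (hN x hx U' w)
    rw [← map_add] at hsum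
    simp only [a', sub_add_cancel] at hsum
    rwa [pull_cι] at hsum

/-- A class of `H(F_j X)` whose residue classes all die at the points of codimension `j + 1`
comes from `H(F_{j+1} X)`. -/
theorem mem_range_fjRes (hi : i' = i + 1 - 2 * ((j : ℤ) + 1)) (hn : n' = n - ((j : ℤ) + 1))
    (α : T.fjGp X j M i n)
    (hα : ∀ (x : X.scheme), WeilCoh.codim X.scheme x = j + 1 →
      ∀ (U : Idx X (ContainsFj X j)) (U' : X.scheme.Opens) (hle : U.1 ≤ U')
        (hd : WeilCoh.dim (U.1 : Scheme.{u}) = WeilCoh.dim (U' : Scheme.{u}))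
        (hp : ∀ y ∈ U', y ∈ U.1 ↔ y ∉ closure ({x} : Set X.scheme)) (hxU : x ∈ U')
        (hiD : i' = i + 1 - 2 * (ptDecomp X x U.1 U' hle hd hp).codim)
        (hnD : n' = n - (ptDecomp X x U.1 U' hle hd hp).codim)
        (a : T.gp (X.res U.1) M i n), (cι T M i n U).hom a = α →
        (cι T M i' n' (ptIdxOf X hxU)).hom
          ((T.res (ptDecomp X x U.1 U' hle hd hp) M i n i' n' hiD hnD).hom a) = 0) :
    ∃ β, ((T.fjRes X (Nat.le_succ j) i n).app M).hom β = α := by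
  suffices H : ∀ (k : ℕ) (U : Idx X (ContainsFj X j)) (a : T.gp (X.res U.1) M i n),
      {x : X.scheme | x ∉ U.1 ∧ WeilCoh.codim X.scheme x = j + 1}.ncard ≤ k →
      (cι T M i n U).hom a = α → ∃ β, ((T.fjRes X (Nat.le_succ j) i n).app M).hom β = α by
    obtain ⟨U, a, ha⟩ := exists_rep T α
    exact H _ U a le_rfl ha
  intro k
  induction k with
  | zero =>
    intro U a hk ha
    have hempty := (Set.ncard_eq_zero (finite_codim_compl X U.2.1)).mp (Nat.le_zero.mp hk)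
    have hU : ContainsFj X (j + 1) U.1 := containsFj_succ_of X U.2.1 fun x hx ↦ by
      by_contra hxU
      exact Set.notMem_empty x (hempty ▸ (⟨hxU, hx⟩ : x ∈ {x : X.scheme | x ∉ U.1 ∧ WeilCoh.codim X.scheme x = j + 1}))
    exact ⟨(cι T M i n (mkFjIdx X U.1 hU)).hom a,
      (ocolimMap_cι T (containsFj_mono X (Nat.le_succ j)) (mkFjIdx X U.1 hU) a).trans ha⟩
  | succ k ih =>
    intro U a hk ha
    rcases Set.eq_empty_or_nonempty {x : X.scheme | x ∉ U.1 ∧ WeilCoh.codim X.scheme x = j + 1} with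
      hempty | ⟨x, hxU, hx⟩
    · exact ih U a (by rw [hempty]; simp) ha
    obtain ⟨K, hUK, hxK, hcov, hCU, hB⟩ := exists_piece X U.2.1 hx hxU
    let U' : X.scheme.Opens := ⟨(K : Set X.scheme)ᶜ, K.isClosed.isOpen_compl⟩
    have hle : U.1 ≤ U' := fun y hy hK ↦ Set.disjoint_left.mp hUK hy hK
    have hxU' : x ∈ U' := hxK
    have hU' : ContainsFj X j U' := fun y hy ↦ hle (U.2.1 y hy)
    have hp : ∀ y ∈ U', y ∈ U.1 ↔ y ∉ closure ({x} : Set X.scheme) := by
      intro y hy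
      constructor
      · intro h hC
        exact Set.notMem_empty y (hCU ▸ (⟨hC, h⟩ : y ∈ closure ({x} : Set X.scheme) ∩ U.1))
      · intro hC
        by_contra hyU
        exact (hcov y hyU).elim hC hy
    have hd := U.2.2.trans (dim_eq_of_containsFj X hU').symm
    have hc := codim_ptDecomp X hle hd hp hxU' U.2.2
    have hiD : i' = i + 1 - 2 * (ptDecomp X x U.1 U' hle hd hp).codim := by
      rw [hc, hx, hi]; push_cast; ring
    have hnD : n' = n - (ptDecomp X x U.1 U' hle hd hp).codim := by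
      rw [hc, hx, hn]; push_cast; ring
    obtain ⟨U₂, hle₂, hxU₂, hU₂, hkeep, hres⟩ := exists_piece_eq_zero T X
      (show j ≤ WeilCoh.codim X.scheme x by omega) hxU' _
      (hα x hx U U' hle hd hp hxU' hiD hnD a ha)
    have hUU₂ : U.1 ≤ U₂ := fun y hy ↦ hkeep y (hle hy) ((hp y (hle hy)).mp hy)
    have hd₂ := U.2.2.trans (dim_eq_of_containsFj X (hU₂ hU')).symm
    have hp₂ : ∀ y ∈ U₂, y ∈ U.1 ↔ y ∉ closure ({x} : Set X.scheme) := fun y hy ↦ hp y (hle₂ hy)
    have hc₂ := codim_ptDecomp X hUU₂ hd₂ hp₂ hxU₂ U.2.2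
    have hiD₂ : i' = i + 1 - 2 * (ptDecomp X x U.1 U₂ hUU₂ hd₂ hp₂).codim := by
      rw [hc₂, hx, hi]; push_cast; ring
    have hnD₂ : n' = n - (ptDecomp X x U.1 U₂ hUU₂ hd₂ hp₂).codim := by
      rw [hc₂, hx, hn]; push_cast; ring
    rw [res_ptDecomp_pull T X hUU₂ hle₂ hxU₂ hd₂ hd hp₂ hp hiD hnD hiD₂ hnD₂] at hres
    obtain ⟨b, hb⟩ := ((T.exact_pull_res _ M i n i' n' hiD₂ hnD₂) a).mp hres
    refine ih (mkFjIdx X U₂ (hU₂ hU')) b ?_ ?_
    · refine Nat.le_of_lt_succ (lt_of_lt_of_le (Set.ncard_lt_ncard ?_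
        (finite_codim_compl X U.2.1)) hk)
      exact ⟨fun y ⟨hy, hc⟩ ↦ ⟨fun hyU ↦ hy (hUU₂ hyU), hc⟩, fun h ↦ (h ⟨hxU, hx⟩).1 hxU₂⟩
    · rw [← ha, ← hb]
      exact (pull_cι T (U := U) (U' := mkFjIdx X U₂ (hU₂ hU')) hUU₂ b).symm

end Groth.Agent.BMCoh

end
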