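import Mathlib.AlgebraicGeometry.Normalization
import Mathlib.AlgebraicGeometry.FunctionField
import Mathlib.AlgebraicGeometry.Morphisms.Finite
import Groth.Prelude.Def_Curv2

/-!
# A finite normalisation is an isomorphism over a nonempty open
-/

universe u

open CategoryTheory AlgebraicGeometry

noncomputable section

namespace Groth.Agent.BMCoh

theorem isIso_map_eqToHom_op {C D : Type*} [Category C] [Category D] (F : Cᵒᵖ ⥤ D) {a b : C}
    (h : a = b) : IsIso (F.map (eqToHom h).op) := by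
  subst h
  rw [eqToHom_refl, op_id, CategoryTheory.Functor.map_id]
  infer_instance

theorem isIso_restrict_basicOpen {X Y : Scheme.{u}} (ν : Y ⟶ X) [IsAffineHom ν] {U : X.Opens}
    (hU : IsAffineOpen U) (s : Γ(X, U)) (hinj : Function.Injective (ν.app U).hom)
    (hsurj : ∀ b, ∃ a, (ν.app U).hom s * b = (ν.app U).hom a) :
    IsIso (ν ∣_ X.basicOpen s) := by
  let U' : X.Opens := X.basicOpen s
  have hU' : IsAffineOpen U' := hU.basicOpen s
  have hle : U' ≤ U := X.basicOpen_le s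
  have hV : IsAffineOpen (ν ⁻¹ᵁ U) := hU.preimage ν
  let rA := (X.presheaf.map (homOfLE hle).op).hom
  let rB := (Y.presheaf.map (homOfLE (ν.preimage_mono hle)).op).hom
  let : Algebra Γ(X, U) Γ(X, U') := rA.toAlgebra
  let : Algebra Γ(Y, ν ⁻¹ᵁ U) Γ(Y, ν ⁻¹ᵁ U') := rB.toAlgebra
  have : IsLocalization.Away s Γ(X, U') := hU.isLocalization_basicOpen s
  have hpre : ν ⁻¹ᵁ U' = Y.basicOpen ((ν.app U).hom s) := Scheme.preimage_basicOpen ν s
  have : IsLocalization.Away ((ν.app U).hom s) Γ(Y, ν ⁻¹ᵁ U') :=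
    hV.isLocalization_of_eq_basicOpen _ _ hpre
  have hnat : ∀ a, (ν.app U').hom (rA a) = rB ((ν.app U).hom a) := fun a ↦
    congrArg (fun f ↦ f.hom a) (ν.naturality (homOfLE hle).op)
  have hsU : IsUnit (rA s) := IsLocalization.Away.algebraMap_isUnit s
  have hbij : Function.Bijective (ν.app U').hom := by
    constructor
    · rw [injective_iff_map_eq_zero]
      intro x hx
      obtain ⟨a, ⟨_, k, rfl⟩, h⟩ := IsLocalization.exists_mk'_eq (Submonoid.powers s) x
      have hxa : x * rA (s ^ k) = rA a := by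
        rw [← h]; exact IsLocalization.mk'_spec _ _ _
      have h0 : rB ((ν.app U).hom a) = 0 := by
        rw [← hnat, ← hxa, map_mul, hx, zero_mul]
      obtain ⟨⟨_, l, rfl⟩, hl⟩ := (IsLocalization.map_eq_zero_iff
        (Submonoid.powers ((ν.app U).hom s)) Γ(Y, ν ⁻¹ᵁ U') _).mp h0
      have hl' : (ν.app U).hom (s ^ l * a) = 0 := by rw [map_mul, map_pow]; exact hl
      have hza : s ^ l * a = 0 := hinj (hl'.trans (map_zero _).symm)
      have h2 := congrArg rA hza
      rw [map_mul, map_zero, ← hxa, map_pow, map_pow] at h2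
      rwa [mul_left_comm, ← pow_add, (hsU.pow _).mul_left_eq_zero] at h2
    · intro y
      obtain ⟨b, ⟨_, k, rfl⟩, h⟩ :=
        IsLocalization.exists_mk'_eq (Submonoid.powers ((ν.app U).hom s)) y
      have hyb : y * rB ((ν.app U).hom s ^ k) = rB b := by
        rw [← h]; exact IsLocalization.mk'_spec _ _ _
      obtain ⟨a, ha⟩ := hsurj b
      obtain ⟨u, hu⟩ := hsU.pow (k + 1)
      refine ⟨rA a * ((u⁻¹ : Γ(X, U')ˣ) : Γ(X, U')), ?_⟩
      have hu' : (ν.app U').hom (rA (s ^ (k + 1))) * (ν.app U').hom ((u⁻¹ : Γ(X, U')ˣ) : Γ(X, U')) = 1 := by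
        rw [← map_mul, map_pow, ← hu, Units.mul_inv, map_one]
      rw [map_mul, hnat, ← ha, map_mul, ← hyb]
      calc rB ((ν.app U).hom s) * (y * rB ((ν.app U).hom s ^ k)) *
            (ν.app U').hom ((u⁻¹ : Γ(X, U')ˣ) : Γ(X, U'))
          = y * ((ν.app U').hom (rA (s ^ (k + 1))) *
              (ν.app U').hom ((u⁻¹ : Γ(X, U')ˣ) : Γ(X, U'))) := by
            rw [hnat, map_pow, map_pow, map_pow, pow_succ]; ring
        _ = y := by rw [hu', mul_one]
  have hiso : IsIso (ν.app U') := (ConcreteCategory.isIso_iff_bijective _).mpr hbij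
  have : IsAffine (U' : Scheme.{u}) := hU'
  show MorphismProperty.isomorphisms Scheme (ν ∣_ U')
  rw [HasAffineProperty.iff_of_isAffine (P := MorphismProperty.isomorphisms Scheme)]
  refine ⟨hU'.preimage ν, ?_⟩
  rw [Scheme.Hom.appTop, morphismRestrict_app]
  have h1 : IsIso (ν.app (U'.ι ''ᵁ ⊤)) := by
    rw [Scheme.Opens.ι_image_top]; exact hiso
  exact @IsIso.comp_isIso _ _ _ _ _ _ _ h1 (isIso_map_eqToHom_op Y.presheaf _)

variable (P : Scheme.{u}) [IsIntegral P] [QuasiCompact (P.fromSpecStalk (genericPoint P))]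
  [QuasiSeparated (P.fromSpecStalk (genericPoint P))]

theorem exists_isIso_normalizationι [IsFinite (Curv2.normalizationι P)] :
    ∃ D : P.Opens, (D : Set P).Nonempty ∧ IsIso (Curv2.normalizationι P ∣_ D) := by
  classical
  let η := genericPoint P
  let f := P.fromSpecStalk η
  obtain ⟨_, ⟨U : P.Opens, hU : IsAffineOpen U, rfl⟩, hηU, -⟩ :=
    P.isBasis_affineOpens.exists_subset_of_mem_open (Set.mem_univ η) isOpen_univ
  have : Nonempty U := ⟨⟨η, hηU⟩⟩
  let : Algebra Γ(P, U) Γ(Spec (P.presheaf.stalk η), f ⁻¹ᵁ U) := (f.app U).hom.toAlgebra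
  let ν := Curv2.normalizationι P
  have : IsFinite ν := inferInstance
  let φ := (ν.app U).hom
  let o := f.normalizationObjIso hU
  let ρ : Γ(Curv2.normalization P, ν ⁻¹ᵁ U) → Γ(Spec (P.presheaf.stalk η), f ⁻¹ᵁ U) :=
    fun b ↦ (o.hom.hom b).1
  have hρ : Function.Injective ρ :=
    Subtype.val_injective.comp (ConcreteCategory.bijective_of_isIso o.hom).1
  have hρφ : ∀ a, ρ (φ a) = (f.app U).hom a := fun a ↦ by
    change (o.hom.hom ((f.fromNormalization.app U).hom a)).1 = _
    rw [f.fromNormalization_app hU]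
    change (o.hom.hom (o.inv.hom (algebraMap _ _ a))).1 = _
    rw [show o.hom.hom (o.inv.hom _) = _ from congrArg (fun g ↦ g.hom (algebraMap _ _ a)) o.inv_hom_id]
    rfl
  have htop : f ⁻¹ᵁ U = ⊤ := eq_top_iff.mpr fun p _ ↦ by
    have hmem : f p ∈ Set.range f := ⟨p, rfl⟩
    rw [show f = P.fromSpecStalk η from rfl, Scheme.range_fromSpecStalk] at hmem
    exact (show f p ⤳ η from hmem).mem_open U.2 hηU
  let toFun' : P.functionField → Γ(Spec (P.presheaf.stalk η), f ⁻¹ᵁ U) := fun k ↦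
    ((Spec (P.presheaf.stalk η)).presheaf.map (homOfLE le_top).op).hom
      ((Scheme.ΓSpecIso (P.presheaf.stalk η)).inv.hom k)
  have happ : ∀ a, (f.app U).hom a = toFun' ((P.presheaf.germ U η hηU).hom a) := fun a ↦
    congrArg (fun g ↦ g.hom a) (Scheme.fromSpecStalk_app hηU)
  have hbij : Function.Bijective toFun' := by
    refine (Function.Bijective.comp ?_ (ConcreteCategory.bijective_of_isIso
      (Scheme.ΓSpecIso (P.presheaf.stalk η)).inv) : _)
    have : IsIso ((homOfLE (le_top : f ⁻¹ᵁ U ≤ ⊤))) := by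
      rw [show (homOfLE (le_top : f ⁻¹ᵁ U ≤ ⊤)) = eqToHom htop from Subsingleton.elim _ _]
      infer_instance
    exact ConcreteCategory.bijective_of_isIso _
  have hmul : ∀ k l, toFun' (k * l) = toFun' k * toFun' l := fun k l ↦ by
    simp only [toFun', map_mul]
  have hφinj : Function.Injective φ := fun a b e ↦ by
    have := congrArg ρ e
    rw [hρφ, hρφ, happ, happ] at this
    exact germ_injective_of_isIntegral P η hηU (hbij.1 this)
  have hden : ∀ b, ∃ s a : Γ(P, U), s ≠ 0 ∧ φ s * b = φ a := by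
    intro b
    obtain ⟨k, hk⟩ := hbij.2 (ρ b)
    have := functionField_isFractionRing_of_isAffineOpen P U hU
    obtain ⟨a, s, hs, e⟩ := IsFractionRing.div_surjective (A := Γ(P, U)) k
    have hs0 : s ≠ 0 := nonZeroDivisors.ne_zero hs
    refine ⟨s, a, hs0, hρ ?_⟩
    have hmulρ : ∀ x y, ρ (x * y) = ρ x * ρ y := fun x y ↦
      congrArg Subtype.val (map_mul o.hom.hom x y)
    rw [hmulρ, hρφ, hρφ, happ, happ, ← hk, ← hmul]
    congr 1
    change algebraMap Γ(P, U) P.functionField s * k = algebraMap Γ(P, U) P.functionField a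
    rw [← e, mul_div_assoc']
    exact mul_div_cancel_left₀ _ (by
      intro h0
      exact hs0 (germ_injective_of_isIntegral P η hηU (h0.trans (map_zero _).symm)))
  have hfin : φ.Finite := Scheme.Hom.finite_app ν U hU
  let : Algebra Γ(P, U) Γ(Curv2.normalization P, ν ⁻¹ᵁ U) := φ.toAlgebra
  have : Module.Finite Γ(P, U) Γ(Curv2.normalization P, ν ⁻¹ᵁ U) := hfin
  obtain ⟨G, hG⟩ := Module.Finite.fg_top (R := Γ(P, U)) (M := Γ(Curv2.normalization P, ν ⁻¹ᵁ U))
  choose s a hs ha using hden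
  let S : Γ(P, U) := ∏ g ∈ G, s g
  have hS : S ≠ 0 := Finset.prod_ne_zero_iff.mpr fun g _ ↦ hs g
  refine ⟨P.basicOpen S, ?_, isIso_restrict_basicOpen ν hU S hφinj fun b ↦ ?_⟩
  · rw [Set.nonempty_iff_ne_empty]
    intro h
    exact hS ((basicOpen_eq_bot_iff S).mp (TopologicalSpace.Opens.ext h))
  · have hb : b ∈ Submodule.span Γ(P, U) (G : Set Γ(Curv2.normalization P, ν ⁻¹ᵁ U)) := hG ▸ trivial
    induction hb using Submodule.span_induction with
    | mem g hg =>
      refine ⟨(∏ g' ∈ G.erase g, s g') * a g, ?_⟩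
      change φ S * g = φ _
      rw [map_mul, ← ha g, ← mul_assoc, ← map_mul, mul_comm (∏ g' ∈ G.erase g, s g') (s g),
        Finset.mul_prod_erase _ _ hg]
    | zero => exact ⟨0, by simp⟩
    | add x y _ _ hx hy =>
      obtain ⟨a₁, e₁⟩ := hx
      obtain ⟨a₂, e₂⟩ := hy
      exact ⟨a₁ + a₂, by rw [mul_add, e₁, e₂, map_add]⟩
    | smul c x _ hx =>
      obtain ⟨a₁, e₁⟩ := hx
      refine ⟨c * a₁, ?_⟩
      change φ S * (φ c * x) = φ (c * a₁)
      change φ S * x = φ a₁ at e₁
      rw [map_mul, ← e₁]; ring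

end Groth.Agent.BMCoh

end
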