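import Groth.Agent.RedSepLib.Basic
import Groth.Agent.BMCoh.Piece

/-!
# Push-forward data between groups of points: restriction to small opens, uniqueness
-/

universe u

open CategoryTheory AlgebraicGeometry Opposite CategoryTheory.Limits TopologicalSpace

noncomputable section

namespace Groth.Agent.BMCoh

open _root_.BMCoh

set_option linter.unusedSectionVars false

variable {V : ObjectProperty Scheme.{u}} [hV : IsConstructible V] {R : Type u} [CommRing R]
  {A : Coefs R} {T : PreTheory V R A} {M : A.Cat} {i n : ℤ}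

theorem pdim_le_of_isClosedMap {Y X : Scheme.{u}} (hY : topologicalKrullDim Y < ⊤)
    (hX : topologicalKrullDim X < ⊤) (f : Y ⟶ X) (hf : IsClosedMap f) :
    ∀ z : Y, WeilCoh.pdim X (f z) ≤ WeilCoh.pdim Y z := by
  suffices H : ∀ (d : ℕ) (z : Y), WeilCoh.pdim Y z = d → WeilCoh.pdim X (f z) ≤ d from
    fun z ↦ H _ z rfl
  intro d
  induction d using Nat.strong_induction_on with
  | _ d ih =>
    intro z hz
    by_contra! hlt
    obtain ⟨x', hx', hd⟩ := exists_specializes_pdim_eq hX (f z) hlt.le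
    have hmem : x' ∈ f '' closure {z} :=
      closure_minimal
        (Set.singleton_subset_iff.mpr (Set.mem_image_of_mem f (subset_closure (Set.mem_singleton z))))
        (hf _ isClosed_closure) (specializes_iff_mem_closure.mp hx')
    obtain ⟨z', hz', rfl⟩ := hmem
    have hne : z' ≠ z := by rintro rfl; omega
    have h1 := pdim_lt_of_specializes hY (specializes_iff_mem_closure.mpr hz') hne
    have h2 := ih _ (hz ▸ h1) z' rfl
    omega

variable {Y X : Obj V} {φ : Y.scheme ⟶ X.scheme} {y : Y.scheme} {x : X.scheme}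

theorem exists_ptSub_map (h : φ y = x) :
    ∃ ψ : (Y.ptSub y).scheme ⟶ (X.ptSub x).scheme, ψ ≫ X.ptSubι x = Y.ptSubι y ≫ φ :=
  Groth.Agent.RedSepLib.exists_lift_of_isReduced _ _ (by
    rw [range_ptSubι, Scheme.Hom.comp_base, TopCat.coe_comp, Set.range_comp, range_ptSubι]
    exact (image_closure_subset_closure_image φ.continuous).trans (by rw [Set.image_singleton, h]))

theorem exists_generic (X : Obj V) (x : X.scheme) : ∃ p, X.ptSubι x p = x := by
  have : x ∈ Set.range (X.ptSubι x) := by rw [range_ptSubι]; exact subset_closure rfl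
  exact this

/-- Below any open of the closure of `y`, an open cut out by an open of the closure of `x`. -/
theorem exists_preimage_le [IsProper φ] (h : φ y = x)
    (hd : WeilCoh.pdim Y.scheme y = WeilCoh.pdim X.scheme x)
    (ψ : (Y.ptSub y).scheme ⟶ (X.ptSub x).scheme) (hψ : ψ ≫ X.ptSubι x = Y.ptSubι y ≫ φ)
    (W₀ : (Y.ptSub y).scheme.Opens) (hW₀ : (W₀ : Set (Y.ptSub y).scheme).Nonempty) :
    ∃ W' : (X.ptSub x).scheme.Opens, (W' : Set (X.ptSub x).scheme).Nonempty ∧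
      (ψ ⁻¹ᵁ W' : Set (Y.ptSub y).scheme).Nonempty ∧ ψ ⁻¹ᵁ W' ≤ W₀ := by
  let K : Set X.scheme := φ '' (Y.ptSubι y '' ((W₀ : Set (Y.ptSub y).scheme)ᶜ))
  have hK : IsClosed K := φ.isClosedMap _
    ((Y.ptSubι y).isClosedEmbedding.isClosedMap _ W₀.2.isClosed_compl)
  obtain ⟨p, hp⟩ := exists_generic Y y
  have hxK : x ∉ K := by
    rintro ⟨z, ⟨q, hq, rfl⟩, hz⟩
    have hzC : Y.ptSubι y q ∈ closure ({y} : Set Y.scheme) := by
      rw [← range_ptSubι]; exact ⟨q, rfl⟩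
    have hne : Y.ptSubι y q ≠ y := fun e ↦
      hq ((Y.ptSubι y).isEmbedding.injective (e.trans hp.symm) ▸ mem_of_nonempty_open Y hW₀ hp)
    have h1 := pdim_lt_of_specializes (dim_lt_top Y) (specializes_iff_mem_closure.mpr hzC) hne
    have h2 := pdim_le_of_isClosedMap (dim_lt_top Y) (dim_lt_top X) φ φ.isClosedMap (Y.ptSubι y q)
    rw [hz] at h2
    omega
  have happ : ∀ q, X.ptSubι x (ψ q) = φ (Y.ptSubι y q) := fun q ↦
    congrArg (fun g : (Y.ptSub y).scheme ⟶ X.scheme ↦ g q) hψ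
  let U : X.scheme.Opens := ⟨Kᶜ, hK.isOpen_compl⟩
  refine ⟨ptOpen X x U, ptOpen_nonempty X hxK, ⟨p, ?_⟩, fun q hq ↦ ?_⟩
  · change X.ptSubι x (ψ p) ∉ K
    rwa [happ, hp, h]
  · by_contra hqW
    exact hq (show X.ptSubι x (ψ q) ∈ K from happ q ▸ ⟨_, ⟨q, hqW, rfl⟩, rfl⟩)

theorem isProper_ptSub_map [IsProper φ] (ψ : (Y.ptSub y).scheme ⟶ (X.ptSub x).scheme)
    (hψ : ψ ≫ X.ptSubι x = Y.ptSubι y ≫ φ) : IsProper ψ := by
  have : IsProper (ψ ≫ X.ptSubι x) := by rw [hψ]; infer_instance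
  exact IsProper.of_comp ψ (X.ptSubι x)

theorem ptPush_pdim_eq (L : T.PtPush φ y x) :
    WeilCoh.pdim Y.scheme y = WeilCoh.pdim X.scheme x := by
  have := L.codim_eq
  rw [relCodim, dim_ptSub, dim_ptSub, sub_eq_zero] at this
  exact_mod_cast this.symm

theorem relCodim_ptOpens (hd : WeilCoh.pdim Y.scheme y = WeilCoh.pdim X.scheme x)
    {W : (Y.ptSub y).scheme.Opens} (hW : (W : Set (Y.ptSub y).scheme).Nonempty)
    {W' : (X.ptSub x).scheme.Opens} (hW' : (W' : Set (X.ptSub x).scheme).Nonempty) :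
    relCodim ((Y.ptSub y).res W).scheme ((X.ptSub x).res W').scheme = 0 := by
  have h1 : WeilCoh.dim ((Y.ptSub y).res W).scheme = WeilCoh.pdim Y.scheme y := dim_ptSub_res Y W hW
  have h2 : WeilCoh.dim ((X.ptSub x).res W').scheme = WeilCoh.pdim X.scheme x := dim_ptSub_res X W' hW'
  rw [relCodim, h1, h2, hd, sub_self]

theorem ptPush_cpt_eq (L : T.PtPush φ y x) (ψ : (Y.ptSub y).scheme ⟶ (X.ptSub x).scheme)
    (hψ : ψ ≫ X.ptSubι x = Y.ptSubι y ≫ φ) [IsProper ψ] (W' : (X.ptSub x).scheme.Opens)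
    (hW' : (W' : Set (X.ptSub x).scheme).Nonempty)
    (hW : (ψ ⁻¹ᵁ W' : Set (Y.ptSub y).scheme).Nonempty)
    (w : T.gp ((Y.ptSub y).res (ψ ⁻¹ᵁ W')) M i n) :
    (L.cpt M i n).hom ((cι T M i n (mkPtIdx Y y (ψ ⁻¹ᵁ W') hW)).hom w) =
      (cι T M i n (mkPtIdx X x W' hW')).hom
        ((T.push (X := (Y.ptSub y).res (ψ ⁻¹ᵁ W')) (Y := (X.ptSub x).res W') (ψ ∣_ W') M i n i n
          (by rw [relCodim_ptOpens (ptPush_pdim_eq L) hW hW']; ring)
          (by rw [relCodim_ptOpens (ptPush_pdim_eq L) hW hW']; ring)).hom w) :=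
  congrArg (fun g ↦ g.hom w)
    (L.cpt_spec M i n (mkPtIdx Y y (ψ ⁻¹ᵁ W') hW) (mkPtIdx X x W' hW') (ψ ∣_ W')
      (by
        rw [← Category.assoc, morphismRestrict_ι, Category.assoc, hψ])
      _ _)

/-- Every class of the point `y` lives on the preimage of an open of the closure of `x`. -/
theorem exists_ptPush_rep [IsProper φ] (L : T.PtPush φ y x)
    (ψ : (Y.ptSub y).scheme ⟶ (X.ptSub x).scheme) (hψ : ψ ≫ X.ptSubι x = Y.ptSubι y ≫ φ)
    (z : T.ptGp Y y M i n) :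
    ∃ (W' : (X.ptSub x).scheme.Opens) (_ : (W' : Set (X.ptSub x).scheme).Nonempty)
      (hW : (ψ ⁻¹ᵁ W' : Set (Y.ptSub y).scheme).Nonempty) (w : T.gp ((Y.ptSub y).res (ψ ⁻¹ᵁ W')) M i n),
      (cι T M i n (mkPtIdx Y y (ψ ⁻¹ᵁ W') hW)).hom w = z := by
  obtain ⟨W₀, a, rfl⟩ := exists_rep T z
  obtain ⟨W', hW', hW, hle⟩ := exists_preimage_le L.maps_pt (ptPush_pdim_eq L) ψ hψ W₀.1 W₀.2.1
  exact ⟨W', hW', hW, _, pull_cι T (U := mkPtIdx Y y (ψ ⁻¹ᵁ W') hW) (U' := W₀) hle a⟩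

theorem ptPush_subsingleton [IsProper φ] : Subsingleton (T.PtPush φ y x) := by
  refine ⟨fun L L' ↦ ?_⟩
  have key : L.cpt = L'.cpt := by
    funext M i n
    ext z
    obtain ⟨ψ, hψ⟩ := exists_ptSub_map (φ := φ) L.maps_pt
    have := isProper_ptSub_map ψ hψ
    obtain ⟨W', hW', hW, w, rfl⟩ := exists_ptPush_rep L ψ hψ z
    rw [ptPush_cpt_eq L ψ hψ W' hW' hW w, ptPush_cpt_eq L' ψ hψ W' hW' hW w]
  cases L; cases L'; cases key; rfl

end Groth.Agent.BMCoh

end
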