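import Groth.Agent.BMCoh.PtPush
import Groth.Agent.BMCoh.NormalizationIso
import Groth.Agent.BMCoh.Family

/-!
# Push-forward between groups of points along a birational map of closures
-/

universe u

open CategoryTheory AlgebraicGeometry Opposite CategoryTheory.Limits TopologicalSpace

noncomputable section

namespace Groth.Agent.BMCoh

open _root_.BMCoh

set_option linter.unusedSectionVars false

variable {V : ObjectProperty Scheme.{u}} [hV : IsConstructible V] {R : Type u} [CommRing R]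
  {A : Coefs R} {T : PreTheory V R A} {M : A.Cat} {i n : ℤ} {Y X : Obj V}
  {φ : Y.scheme ⟶ X.scheme} {y : Y.scheme} {x : X.scheme}

theorem ptPush_bijective_of_isIso_over [IsProper φ] (L : T.PtPush φ y x)
    (ψ : (Y.ptSub y).scheme ⟶ (X.ptSub x).scheme) (hψ : ψ ≫ X.ptSubι x = Y.ptSubι y ≫ φ)
    (D : (X.ptSub x).scheme.Opens) (hD : (D : Set (X.ptSub x).scheme).Nonempty)
    [hiso : IsIso (ψ ∣_ D)] : Function.Bijective (L.cpt M i n).hom := by
  have := isProper_ptSub_map ψ hψ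
  have hd := ptPush_pdim_eq L
  have iso : ∀ W : (X.ptSub x).scheme.Opens, W ≤ D → IsIso (ψ ∣_ W) := fun W hW ↦
    MorphismProperty.of_isPullback (P := MorphismProperty.isomorphisms Scheme)
      (isPullback_restrict ψ hW) hiso
  have hne : ∀ W : (X.ptSub x).scheme.Opens, W ≤ D → (W : Set (X.ptSub x).scheme).Nonempty →
      (ψ ⁻¹ᵁ W : Set (Y.ptSub y).scheme).Nonempty := by
    intro W hW ⟨p, hp⟩
    have := iso W hW
    exact ⟨_, (inv (ψ ∣_ W) ⟨p, hp⟩).2⟩
  constructor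
  · rw [injective_iff_map_eq_zero]
    intro z hz
    obtain ⟨W₁, hW₁, hW₁', w₁, rfl⟩ := exists_ptPush_rep L ψ hψ z
    let W' : (X.ptSub x).scheme.Opens := W₁ ⊓ D
    have hW' : (W' : Set (X.ptSub x).scheme).Nonempty :=
      nonempty_preirreducible_inter W₁.2 D.2 hW₁ hD
    have hW := hne W' inf_le_right hW'
    have hle : mkPtIdx Y y (ψ ⁻¹ᵁ W') hW ≤ mkPtIdx Y y (ψ ⁻¹ᵁ W₁) hW₁' :=
      ψ.preimage_mono (inf_le_left : W₁ ⊓ D ≤ W₁)
    rw [← pull_cι T hle w₁] at hz ⊢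
    rw [ptPush_cpt_eq L ψ hψ W' hW' hW] at hz
    obtain ⟨W₂, hle₂, h0⟩ := (cι_eq_zero_iff T).mp hz
    have hle₂' : W₂.1 ≤ W' := hle₂
    have hW₂ := hne W₂.1 (hle₂'.trans inf_le_right) W₂.2.1
    have hle₃ : mkPtIdx Y y (ψ ⁻¹ᵁ W₂.1) hW₂ ≤ mkPtIdx Y y (ψ ⁻¹ᵁ W') hW := ψ.preimage_mono hle₂'
    have := iso W₂.1 (hle₂'.trans inf_le_right)
    have key := push_pull_apply T (X := (Y.ptSub y).res (ψ ⁻¹ᵁ W')) (Y := (X.ptSub x).res W')
      (X' := (Y.ptSub y).res (ψ ⁻¹ᵁ W₂.1)) (Y' := (X.ptSub x).res W₂.1) (M := M) (i := i) (n := n)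
      (i' := i) (n' := n) (ψ ∣_ W') (ψ ∣_ W₂.1) (resIdx hle₂) (resIdx hle₃)
      (isPullback_restrict ψ hle₂')
      (by rw [relCodim_ptOpens hd hW hW']; ring) (by rw [relCodim_ptOpens hd hW hW']; ring)
      (by rw [relCodim_ptOpens hd hW₂ W₂.2.1]; ring)
      (by rw [relCodim_ptOpens hd hW₂ W₂.2.1]; ring)
      ((T.pull (resIdx hle) M i n).hom w₁)
    rw [← pull_cι T hle₃]
    erw [key] at h0
    have h1 := (push_bijective_of_isIso T (X := (Y.ptSub y).res (ψ ⁻¹ᵁ W₂.1))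
      (Y := (X.ptSub x).res W₂.1) (ψ ∣_ W₂.1) _ _).1 (h0.trans (map_zero _).symm)
    rw [h1, map_zero]
  · intro α
    obtain ⟨W₁, hle, a, rfl⟩ := exists_rep_le T (mkPtIdx X x D hD) α
    have hleD : W₁.1 ≤ D := hle
    have := iso W₁.1 hleD
    have hW := hne W₁.1 hleD W₁.2.1
    obtain ⟨w, rfl⟩ := (push_bijective_of_isIso T (X := (Y.ptSub y).res (ψ ⁻¹ᵁ W₁.1))
      (Y := (X.ptSub x).res W₁.1) (i := i) (n := n) (i' := i) (n' := n) (ψ ∣_ W₁.1)
      (by rw [relCodim_ptOpens hd hW W₁.2.1]; ring)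
      (by rw [relCodim_ptOpens hd hW W₁.2.1]; ring)).2 a
    exact ⟨_, ptPush_cpt_eq L ψ hψ W₁.1 W₁.2.1 hW w⟩

theorem isIso_ptSubι_genericPoint (Y : Obj V) [IsIntegral Y.scheme] :
    IsIso (Y.ptSubι (genericPoint Y.scheme)) := by
  have : Surjective (Y.ptSubι (genericPoint Y.scheme)) := ⟨fun p ↦ by
    have : p ∈ Set.range (Y.ptSubι (genericPoint Y.scheme)) := by
      rw [range_ptSubι]
      exact specializes_iff_mem_closure.mp (genericPoint_specializes p)
    exact this⟩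
  exact isIso_of_isClosedImmersion_of_surjective _

theorem ptPush_normalization_bijective (X : Obj V) (w : X.scheme)
    [IsIntegral (X.ptSub w).scheme]
    [QuasiCompact ((X.ptSub w).scheme.fromSpecStalk (genericPoint (X.ptSub w).scheme))]
    [QuasiSeparated ((X.ptSub w).scheme.fromSpecStalk (genericPoint (X.ptSub w).scheme))]
    (Y : Obj V) [IsIntegral Y.scheme] (e : Y.scheme ≅ Curv2.normalization (X.ptSub w).scheme)
    (φ : Y.scheme ⟶ X.scheme) [IsProper φ]
    (hφ : φ = e.hom ≫ Curv2.normalizationι (X.ptSub w).scheme ≫ X.ptSubι w)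
    (L : T.PtPush φ (genericPoint Y.scheme) w) : Function.Bijective (L.cpt M i n).hom := by
  let ν := Curv2.normalizationι (X.ptSub w).scheme
  have hν : IsFinite ν := by
    have : IsProper (ν ≫ X.ptSubι w) := by
      have h : ν ≫ X.ptSubι w = e.inv ≫ φ := by rw [hφ, Iso.inv_hom_id_assoc]
      rw [h]; infer_instance
    have : IsProper ν := IsProper.of_comp ν (X.ptSubι w)
    have : IsIntegralHom ν :=
      inferInstanceAs (IsIntegralHom (Scheme.Hom.fromNormalization _))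
    exact (IsFinite.iff_isIntegralHom_and_locallyOfFiniteType ν).mpr ⟨inferInstance, inferInstance⟩
  obtain ⟨D, hD, hDiso⟩ := exists_isIso_normalizationι (X.ptSub w).scheme
  have := isIso_ptSubι_genericPoint Y
  let ψ : (Y.ptSub (genericPoint Y.scheme)).scheme ⟶ (X.ptSub w).scheme :=
    Y.ptSubι (genericPoint Y.scheme) ≫ e.hom ≫ ν
  have hψ : ψ ≫ X.ptSubι w = Y.ptSubι (genericPoint Y.scheme) ≫ φ := by
    rw [hφ]; simp only [ψ, ν, Category.assoc]
  have : IsIso (ψ ∣_ D) := by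
    have h : ψ = (Y.ptSubι (genericPoint Y.scheme) ≫ e.hom) ≫ ν := (Category.assoc _ _ _).symm
    rw [h, morphismRestrict_comp]
    have h2 : IsIso ((Y.ptSubι (genericPoint Y.scheme) ≫ e.hom) ∣_ ν ⁻¹ᵁ D) :=
      IsZariskiLocalAtTarget.restrict (P := MorphismProperty.isomorphisms Scheme)
        (inferInstance : IsIso (Y.ptSubι (genericPoint Y.scheme) ≫ e.hom)) _
    exact @IsIso.comp_isIso _ _ _ _ _ _ _ h2 hDiso
  exact ptPush_bijective_of_isIso_over L ψ hψ D hD

end Groth.Agent.BMCoh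

end
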