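import Groth.Agent.BMCoh.Vanish

/-!
# Comparison of two steps of the coniveau filtration through closed subobjects of fixed dimension
-/

universe u

open CategoryTheory AlgebraicGeometry Opposite CategoryTheory.Limits TopologicalSpace

noncomputable section

namespace Groth.Agent.BMCoh

open _root_.BMCoh

set_option linter.unusedSectionVars false
set_option linter.style.haveILetI false

variable {V : ObjectProperty Scheme.{u}} [hV : IsConstructible V] {R : Type u} [CommRing R]
  {A : Coefs R} (T : PreTheory V R A) {M : A.Cat} {i n : ℤ} (X : Obj V) {j m : ℕ}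

/-- A closed subset of dimension `dim X - (j + 1)` containing the complement of an open that contains
all points of codimension at most `j`, and avoiding those points. -/
theorem exists_closed_of_containsFj {U₀ : X.scheme.Opens} (hU₀ : ContainsFj X j U₀)
    (hj : j + 1 ≤ WeilCoh.dim X.scheme) :
    ∃ K : Closeds X.scheme, (U₀ : Set X.scheme)ᶜ ⊆ K ∧
      WeilCoh.dim (closedSub X K).scheme + (j + 1) = WeilCoh.dim X.scheme ∧
      ∀ y ∈ K, j < WeilCoh.codim X.scheme y := by
  haveI : Nonempty X.scheme := by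
    by_contra h
    rw [not_nonempty_iff] at h
    have h0 : topologicalKrullDim X.scheme = ⊥ := Order.krullDim_eq_bot_iff.mpr
      ⟨fun Z ↦ h.false Z.isIrreducible.nonempty.some⟩
    have : WeilCoh.dim X.scheme = 0 := by simp [WeilCoh.dim, WeilCoh.natDim, h0]
    omega
  obtain ⟨y, hy⟩ := exists_pdim_eq_dim (dim_lt_top X)
  obtain ⟨x, -, hx⟩ := exists_specializes_pdim_eq (dim_lt_top X) y
    (k := WeilCoh.dim X.scheme - (j + 1)) (by omega)
  let K : Closeds X.scheme := ⟨(U₀ : Set X.scheme)ᶜ ∪ closure {x},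
    U₀.2.isClosed_compl.union isClosed_closure⟩
  have hK : ∀ z ∈ K, j < WeilCoh.codim X.scheme z := by
    have hxc := codim_add_pdim X x
    rintro z (hz | hz)
    · by_contra h
      exact hz (hU₀ z (by omega))
    · rcases eq_or_ne z x with rfl | hne
      · omega
      · have := codim_lt_of_specializes X (specializes_iff_mem_closure.mpr hz) hne
        omega
  refine ⟨K, Set.subset_union_left, ?_, hK⟩
  let c := closedSubι X K
  obtain ⟨p, hp⟩ : x ∈ Set.range c := by
    rw [range_closedSubι]; exact Or.inr (subset_closure rfl)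
  haveI : Nonempty (closedSub X K).scheme := ⟨p⟩
  obtain ⟨q, hq⟩ := exists_pdim_eq_dim (dim_lt_top (closedSub X K))
  have e := pdim_eq_of_isClosedEmbedding c c.isClosedEmbedding
  have hp' := pdim_le_dim (dim_lt_top (closedSub X K)) p
  have hq' := codim_add_pdim X (c q)
  have hq'' := hK (c q) ((range_closedSubι X K).le ⟨q, rfl⟩)
  have ep : WeilCoh.pdim X.scheme (c p) = WeilCoh.pdim (closedSub X K).scheme p := e p
  have eq' : WeilCoh.pdim X.scheme (c q) = WeilCoh.pdim (closedSub X K).scheme q := e q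
  rw [hp] at ep
  omega

variable {K : Closeds X.scheme}

theorem codim_closedSub (hK : WeilCoh.dim (closedSub X K).scheme + (j + 1) = WeilCoh.dim X.scheme)
    (z : (closedSub X K).scheme) :
    WeilCoh.codim X.scheme (closedSubι X K z) = WeilCoh.codim (closedSub X K).scheme z + (j + 1) := by
  have h1 := codim_add_pdim X (closedSubι X K z)
  have h2 := codim_add_pdim (closedSub X K) z
  have h3 : WeilCoh.pdim X.scheme (closedSubι X K z) = WeilCoh.pdim (closedSub X K).scheme z :=
    pdim_eq_of_isClosedEmbedding _ (closedSubι X K).isClosedEmbedding z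
  omega

theorem containsFj_preimage (hK : WeilCoh.dim (closedSub X K).scheme + (j + 1) = WeilCoh.dim X.scheme)
    {U : X.scheme.Opens} (hU : ContainsFj X (j + 1 + m) U) :
    ContainsFj (closedSub X K) m (closedSubι X K ⁻¹ᵁ U) := fun z hz ↦
  hU _ (by rw [codim_closedSub X hK]; omega)

/-- An open of the closed subobject containing its points of codimension at most `m` is cut out by
an open containing those of codimension at most `j + 1 + m`. -/
theorem exists_open_closedSub (hK : WeilCoh.dim (closedSub X K).scheme + (j + 1) = WeilCoh.dim X.scheme)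
    {W : (closedSub X K).scheme.Opens} (hW : ContainsFj (closedSub X K) m W) :
    ∃ B : X.scheme.Opens, ContainsFj X (j + 1 + m) B ∧ closedSubι X K ⁻¹ᵁ B ≤ W ∧
      (K : Set X.scheme)ᶜ ⊆ B := by
  let c := closedSubι X K
  refine ⟨⟨(c '' (W : Set (closedSub X K).scheme)ᶜ)ᶜ,
    (c.isClosedEmbedding.isClosedMap _ W.2.isClosed_compl).isOpen_compl⟩, ?_, ?_, ?_⟩
  · rintro y hy ⟨z, hz, rfl⟩
    exact hz (hW z (by rw [codim_closedSub X hK] at hy; omega))
  · intro z hz
    by_contra h
    exact hz ⟨z, h, rfl⟩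
  · rintro y hy ⟨z, -, rfl⟩
    exact hy ((range_closedSubι X K).le ⟨z, rfl⟩)

theorem relCodim_closedSub_res
    (hK : WeilCoh.dim (closedSub X K).scheme + (j + 1) = WeilCoh.dim X.scheme)
    {U : X.scheme.Opens} (hU : ContainsFj X (j + 1 + m) U) :
    relCodim ((closedSub X K).res (closedSubι X K ⁻¹ᵁ U)).scheme (X.res U).scheme =
      ((j : ℤ) + 1) := by
  have h1 : WeilCoh.dim (X.res U).scheme = WeilCoh.dim X.scheme := dim_eq_of_containsFj X hU
  have h2 : WeilCoh.dim ((closedSub X K).res (closedSubι X K ⁻¹ᵁ U)).scheme =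
      WeilCoh.dim (closedSub X K).scheme :=
    dim_eq_of_containsFj (closedSub X K) (containsFj_preimage X hK hU)
  change ((WeilCoh.dim (X.res U).scheme : ℕ) : ℤ) -
    (WeilCoh.dim ((closedSub X K).res (closedSubι X K ⁻¹ᵁ U)).scheme : ℕ) = _
  rw [h1, h2, ← hK]
  push_cast
  ring

theorem fjRes_le_bijective_of_dim_le {j k : ℕ} (h : j ≤ k) (hj : WeilCoh.dim X.scheme ≤ j) :
    Function.Bijective ((T.fjRes X h i n).app M).hom := by
  refine (Function.Bijective.of_comp_iff _ (toFj_bijective_of_dim_le T X (hj.trans h))).mp ?_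
  have e : ⇑((T.fjRes X h i n).app M).hom ∘ ⇑((T.toFj X k i n).app M).hom =
      ⇑((T.toFj X j i n).app M).hom := funext fun a ↦ fjRes_toFj T X h a
  rw [e]
  exact toFj_bijective_of_dim_le T X hj

variable (i n) in
theorem fjRes_injective_of_closed (h : j ≤ j + 1 + m)
    (h0 : ∀ (Z : Obj V) (ι : Z.scheme ⟶ X.scheme) [IsClosedImmersion ι] [IsReduced Z.scheme],
      WeilCoh.dim Z.scheme + (j + 1) = WeilCoh.dim X.scheme →
      IsZero (T.fjGp Z m M (i - 2 * ((j : ℤ) + 1)) (n - ((j : ℤ) + 1))))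
    (hj : j + 1 ≤ WeilCoh.dim X.scheme) :
    Function.Injective ((T.fjRes X h i n).app M).hom := by
  rw [injective_iff_map_eq_zero]
  intro α hα
  obtain ⟨U, a, rfl⟩ := exists_rep T α
  rw [ocolimMap_cι] at hα
  obtain ⟨U₀, hle, h0a⟩ := (cι_eq_zero_iff T).mp hα
  obtain ⟨K, hKU, hK, hKj⟩ := exists_closed_of_containsFj X U₀.2.1 hj
  let c := closedSubι X K
  let U₁ : X.scheme.Opens := ⟨(K : Set X.scheme)ᶜ, K.isClosed.isOpen_compl⟩
  have hU₁₀ : U₁ ≤ U₀.1 := fun y hy ↦ by_contra fun hy' ↦ hy (hKU hy')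
  have hU₁ : ContainsFj X j U₁ := fun y hy hyK ↦ (hKj y hyK).not_ge hy
  have hd := (dim_eq_of_containsFj X hU₁).trans (dim_eq_of_containsFj X U.2.1).symm
  let D := mkDecomp X (closedSub X K) c U₁ U.1 (hU₁₀.trans hle) hd
    (fun y _ ↦ by rw [range_closedSubι]; rfl)
  have ha : (T.pull D.j M i n).hom a = 0 := by
    refine Eq.trans (pull_resLE_resLE T X hU₁₀ hle ?_ ?_ a).symm ?_
    · exact (dim_eq_of_containsFj X hU₁).trans U₀.2.2.symm
    · exact U₀.2.2.trans U.2.2.symm
    · erw [h0a]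
      exact map_zero _
  have hc := relCodim_closedSub_res X hK U.2.1
  obtain ⟨w, hw⟩ := (exact_push_pull' T D (i' := i - 2 * ((j : ℤ) + 1)) (n' := n - ((j : ℤ) + 1))
    (by rw [show relCodim D.Z.scheme (X.res U.1).scheme = (j : ℤ) + 1 from hc]; ring)
    (by rw [show relCodim D.Z.scheme (X.res U.1).scheme = (j : ℤ) + 1 from hc]; ring) a).mp ha
  have hz := eq_zero_of_isZero (h0 (closedSub X K) c hK)
    ((cι T M _ _ (mkFjIdx (closedSub X K) (c ⁻¹ᵁ U.1) (containsFj_preimage X hK U.2.1))).hom w)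
  obtain ⟨W, hW, hwW⟩ := (cι_eq_zero_iff T).mp hz
  obtain ⟨B, hB, hBW, -⟩ := exists_open_closedSub X hK W.2.1
  let U' : Idx X (ContainsFj X (j + 1 + m)) :=
    mkFjIdx X (U.1 ⊓ B) (fun y hy ↦ ⟨U.2.1 y hy, hB y hy⟩)
  have hU'U : U' ≤ U := inf_le_left (b := B)
  have hc' := relCodim_closedSub_res X hK U'.2.1
  have hd' : WeilCoh.dim (c ⁻¹ᵁ U'.1 : Scheme.{u}) = WeilCoh.dim (c ⁻¹ᵁ U.1 : Scheme.{u}) :=
    (dim_eq_of_containsFj (closedSub X K) (containsFj_preimage X hK U'.2.1)).trans
      (dim_eq_of_containsFj (closedSub X K) (containsFj_preimage X hK U.2.1)).symm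
  have key : (T.pull ((closedSub X K).resLE (c.preimage_mono hU'U) hd') M _ _).hom w = 0 := by
    refine Eq.trans (pull_resLE_resLE T (closedSub X K)
      (show c ⁻¹ᵁ U'.1 ≤ W.1 from fun z hz ↦ hBW hz.2) hW ?_ ?_ w).symm ?_
    · exact (dim_eq_of_containsFj (closedSub X K) (containsFj_preimage X hK U'.2.1)).trans W.2.2.symm
    · exact W.2.2.trans (dim_eq_of_containsFj (closedSub X K) (containsFj_preimage X hK U.2.1)).symm
    · erw [hwW]
      exact map_zero _
  have ha' : (T.pull (resIdx hU'U) M i n).hom a = 0 := by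
    rw [← hw]
    refine (push_pull_apply T (X := (closedSub X K).res (c ⁻¹ᵁ U.1)) (Y := X.res U.1)
      (X' := (closedSub X K).res (c ⁻¹ᵁ U'.1)) (Y' := X.res U'.1) (c ∣_ U.1) (c ∣_ U'.1) (resIdx hU'U)
      ((closedSub X K).resLE (c.preimage_mono hU'U) hd') (isPullback_restrict c hU'U) _ _
      (by rw [hc']; ring) (by rw [hc']; ring) w).trans ?_
    rw [key, map_zero]
  rw [← pull_cι T hU'U a, ha', map_zero]

variable (i n) in
theorem fjRes_surjective_of_closed (h : j ≤ j + 1 + m)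
    (h1 : ∀ (Z : Obj V) (ι : Z.scheme ⟶ X.scheme) [IsClosedImmersion ι] [IsReduced Z.scheme],
      WeilCoh.dim Z.scheme + (j + 1) = WeilCoh.dim X.scheme →
      IsZero (T.fjGp Z m M (i + 1 - 2 * ((j : ℤ) + 1)) (n - ((j : ℤ) + 1))))
    (hj : j + 1 ≤ WeilCoh.dim X.scheme) :
    Function.Surjective ((T.fjRes X h i n).app M).hom := by
  intro α
  obtain ⟨U₀, a₀, rfl⟩ := exists_rep T α
  obtain ⟨K, hKU, hK, hKj⟩ := exists_closed_of_containsFj X U₀.2.1 hj
  let c := closedSubι X K
  let U₁ : X.scheme.Opens := ⟨(K : Set X.scheme)ᶜ, K.isClosed.isOpen_compl⟩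
  have hU₁₀ : U₁ ≤ U₀.1 := fun y hy ↦ by_contra fun hy' ↦ hy (hKU hy')
  have hU₁ : ContainsFj X j U₁ := fun y hy hyK ↦ (hKj y hyK).not_ge hy
  let I₁ : Idx X (ContainsFj X j) := mkFjIdx X U₁ hU₁
  have hI₁ : I₁ ≤ U₀ := hU₁₀
  let a : T.gp (X.res U₁) M i n := (T.pull (resIdx hI₁) M i n).hom a₀
  have hp : ∀ {U : X.scheme.Opens}, ∀ y ∈ U, y ∈ U₁ ↔ y ∉ Set.range c := fun y _ ↦ by
    rw [range_closedSubι]; rfl
  have htop : ContainsFj X (j + 1 + m) (⊤ : X.scheme.Opens) := fun _ _ ↦ trivial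
  have hd := (dim_eq_of_containsFj X hU₁).trans (dim_eq_of_containsFj X htop).symm
  let D := mkDecomp X (closedSub X K) c U₁ ⊤ le_top hd hp
  have hc := relCodim_closedSub_res X hK htop
  let i' := i + 1 - 2 * ((j : ℤ) + 1)
  let n' := n - ((j : ℤ) + 1)
  have hiD : i' = i + 1 - 2 * D.codim := by
    rw [show D.codim = (j : ℤ) + 1 from hc]
  have hnD : n' = n - D.codim := by
    rw [show D.codim = (j : ℤ) + 1 from hc]
  have hz := eq_zero_of_isZero (h1 (closedSub X K) c hK)
    ((cι T M _ _ (mkFjIdx (closedSub X K) (c ⁻¹ᵁ (⊤ : X.scheme.Opens))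
      (containsFj_preimage X hK htop))).hom ((T.res D M i n i' n' hiD hnD).hom a))
  obtain ⟨W, hW, hwW⟩ := (cι_eq_zero_iff T).mp hz
  obtain ⟨B, hB, hBW, hKB⟩ := exists_open_closedSub X hK W.2.1
  have hU₁B : U₁ ≤ B := hKB
  have hd' := (dim_eq_of_containsFj X hU₁).trans (dim_eq_of_containsFj X hB).symm
  let D' := mkDecomp X (closedSub X K) c U₁ B hU₁B hd' hp
  have hc' := relCodim_closedSub_res X hK hB
  have hiD' : i' = i + 1 - 2 * D'.codim := by
    rw [show D'.codim = (j : ℤ) + 1 from hc']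
  have hnD' : n' = n - D'.codim := by
    rw [show D'.codim = (j : ℤ) + 1 from hc']
  have hdB : WeilCoh.dim (c ⁻¹ᵁ B : Scheme.{u}) = WeilCoh.dim (c ⁻¹ᵁ (⊤ : X.scheme.Opens) : Scheme.{u}) :=
    (dim_eq_of_containsFj (closedSub X K) (containsFj_preimage X hK hB)).trans
      (dim_eq_of_containsFj (closedSub X K) (containsFj_preimage X hK htop)).symm
  have key : (T.pull ((closedSub X K).resLE (c.preimage_mono (le_top : B ≤ ⊤)) hdB) M i' n').hom
      ((T.res D M i n i' n' hiD hnD).hom a) = 0 := by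
    refine Eq.trans (pull_resLE_resLE T (closedSub X K) hBW hW ?_ ?_ ((T.res D M i n i' n' hiD hnD).hom a)).symm ?_
    · exact (dim_eq_of_containsFj (closedSub X K) (containsFj_preimage X hK hB)).trans W.2.2.symm
    · exact W.2.2.trans (dim_eq_of_containsFj (closedSub X K) (containsFj_preimage X hK htop)).symm
    · erw [hwW]
      exact map_zero _
  have hres : (T.res D' M i n i' n' hiD' hnD').hom a = 0 := by
    refine Eq.trans ?_ key
    refine Eq.symm ((res_pull_apply T D D' (X.resLE le_top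
      ((dim_eq_of_containsFj X hB).trans (dim_eq_of_containsFj X htop).symm))
      ((closedSub X K).resLE (c.preimage_mono (le_top : B ≤ ⊤)) hdB) (𝟙 (X.res U₁)) ?_ ?_
      hiD hnD hiD' hnD' a).trans (congrArg _ (pull_id T a)))
    · exact (isPullback_restrict c (le_top : B ≤ ⊤)).w
    · exact (Category.id_comp _).trans (Scheme.homOfLE_homOfLE _ hU₁B le_top).symm
  obtain ⟨b, hb⟩ := ((T.exact_pull_res D' M i n i' n' hiD' hnD') a).mp hres
  refine ⟨(cι T M i n (mkFjIdx X B hB)).hom b, ?_⟩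
  rw [ocolimMap_cι]
  refine Eq.trans ?_ (pull_cι T hI₁ a₀)
  change _ = (cι T M i n I₁).hom a
  rw [← hb]
  exact (pull_cι T (U := I₁) (U' := mkFjIdx X B (containsFj_mono X (show j ≤ j + 1 + m by omega) B hB))
    hU₁B b).symm

end Groth.Agent.BMCoh

end
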