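import Groth.Agent.BMCoh.Gysin

/-!
# Additivity for two complementary open pieces
-/

universe u

open CategoryTheory AlgebraicGeometry CategoryTheory.Limits

noncomputable section

namespace Groth.Agent.BMCoh

open _root_.BMCoh

set_option linter.unusedSectionVars false

variable {V : ObjectProperty Scheme.{u}} [hV : IsConstructible V] {R : Type u} [CommRing R]
  {A : Coefs R} (T : PreTheory V R A) {M : A.Cat} {i n : ℤ}
  {X Y W : Obj V} (iX : X ⟶ W) (iY : Y ⟶ W) (h : Set.range iX.hom = (Set.range iY.hom)ᶜ)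

include h in
theorem exists_extension_by_zero (a : T.gp Y M i n) :
    ∃ z : T.gp W M i n, (T.pull iX M i n).hom z = 0 ∧ (T.pull iY M i n).hom z = a := by
  have := isClosedImmersion_of_compl iX iY h
  have hc : relCodim Y.scheme W.scheme = 0 := relCodim_eq_zero iY
  have hc' : relCodim Y.scheme Y.scheme = 0 := relCodim_eq_zero (𝟙 Y)
  have hi : i = i + 2 * relCodim Y.scheme W.scheme := by rw [hc]; ring
  have hn : n = n + relCodim Y.scheme W.scheme := by rw [hc]; ring
  refine ⟨(T.push iY.hom M i n i n hi hn).hom a,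
    (exact_push_pull' T (decompOfCompl iX iY h) hi hn _).mpr ⟨a, rfl⟩, ?_⟩
  rw [push_pull_apply T iY.hom (𝟙 Y.scheme) iY (𝟙 Y) (IsKernelPair.id_of_mono iY.hom) hi hn
    (by rw [hc']; ring) (by rw [hc']; ring), pull_id, T.push_id]
  rfl

include h in
theorem pull_pair_bijective :
    Function.Bijective (fun a : T.gp W M i n =>
      ((T.pull iX M i n).hom a, (T.pull iY M i n).hom a)) := by
  constructor
  · intro a b e
    rw [Prod.mk.injEq] at e
    refine sub_eq_zero.mp (pull_pair_injective T iX iY h (a - b) ?_ ?_)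
    · rw [map_sub, e.1, sub_self]
    · rw [map_sub, e.2, sub_self]
  · rintro ⟨a, b⟩
    obtain ⟨z, hz₁, hz₂⟩ := exists_extension_by_zero T iX iY h b
    obtain ⟨z', hz'₁, hz'₂⟩ := exists_extension_by_zero T iY iX (by rw [h, compl_compl]) a
    exact ⟨z + z', Prod.ext (by simp [hz₁, hz'₂]) (by simp [hz₂, hz'₁])⟩

end Groth.Agent.BMCoh

end
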